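import Mathlib.Data.Nat.Prime.Basic
import Mathlib.Data.Int.ModEq
import Mathlib.Tactic.Ring
import Mathlib.Tactic.Linarith
import Mathlib.Tactic.LinearCombination

/-!
# The arithmetic behind Brauer's dichotomy for a prime to the first power
-/

set_option autoImplicit false

namespace CfsgLib.BrauerPrime

/-- Brauer's equation `n = F(p, u, h)`. -/
def Eqn (p n : ℕ) : Prop :=
  ∃ h u : ℕ, 0 < h ∧ 0 < u ∧ n * (u + 1) = h * u * p + u ^ 2 + u + h

theorem eqn_of_mul {p n U R : ℕ} (hp : 0 < p) (hU : 0 < U) (hR : U + 1 < R)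
    (hmul : (U * p + 1) * R = (U + 1) * (1 + n * p)) : Eqn p n := by
  have hdvd : (p : ℤ) ∣ (R : ℤ) - (U + 1 : ℕ) := by
    refine ⟨(U + 1) * n - U * R, ?_⟩
    have h : ((U * p + 1) * R : ℤ) = (U + 1) * (1 + n * p) := by exact_mod_cast hmul
    push_cast
    linear_combination h
  obtain ⟨h, hh⟩ := hdvd
  have h0 : 0 < h := by
    by_contra hle
    have h1 : (p : ℤ) * h ≤ 0 := mul_nonpos_of_nonneg_of_nonpos (by positivity) (not_lt.1 hle)
    have h2 : ((U + 1 : ℕ) : ℤ) < R := by exact_mod_cast hR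
    omega
  obtain ⟨h', rfl⟩ : ∃ h' : ℕ, h = h' := ⟨h.toNat, (Int.toNat_of_nonneg h0.le).symm⟩
  have hR' : R = h' * p + U + 1 := by
    have : (R : ℤ) = ((h' * p + U + 1 : ℕ) : ℤ) := by push_cast at hh ⊢; linarith
    exact_mod_cast this
  refine ⟨h', U, by exact_mod_cast h0, hU, ?_⟩
  subst hR'
  refine Nat.eq_of_mul_eq_mul_right hp (Nat.add_left_cancel (n := U + 1) ?_)
  calc U + 1 + n * (U + 1) * p = (U + 1) * (1 + n * p) := by ring
    _ = (U * p + 1) * (h' * p + U + 1) := hmul.symm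
    _ = U + 1 + (h' * U * p + U ^ 2 + U + h') * p := by ring

theorem exists_split {p d m : ℕ} (hp : 1 < p) (hd : d ∣ (p - 1) * m) :
    ∃ g d₀ β q, 0 < g ∧ d = g * d₀ ∧ p - 1 = g * β ∧ m = d₀ * q ∧ g = Nat.gcd d (p - 1) := by
  have hg0 : 0 < Nat.gcd d (p - 1) := Nat.gcd_pos_of_pos_right _ (by omega)
  obtain ⟨d₀, hd₀⟩ := Nat.gcd_dvd_left d (p - 1)
  obtain ⟨β, hβ⟩ := Nat.gcd_dvd_right d (p - 1)
  have hcop : Nat.Coprime d₀ β := by
    have h1 := Nat.gcd_mul_left (Nat.gcd d (p - 1)) d₀ β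
    rw [← hd₀, ← hβ] at h1
    exact (Nat.eq_of_mul_eq_mul_left hg0 (h1.symm.trans (mul_one _).symm))
  have h2 : d₀ ∣ β * m := by
    have h3 : Nat.gcd d (p - 1) * d₀ ∣ Nat.gcd d (p - 1) * (β * m) := by
      rw [← hd₀, ← mul_assoc, ← hβ]; exact hd
    exact Nat.dvd_of_mul_dvd_mul_left hg0 h3
  obtain ⟨q, hq⟩ := hcop.dvd_of_dvd_mul_left h2
  exact ⟨_, d₀, β, q, hg0, hd₀, hβ, hq, rfl⟩

/-- A divisor of `(p - 1)(1 + n p)` congruent to `1`. -/
theorem plus {p n d : ℕ} (hp : p.Prime) (hE : ¬ Eqn p n) (hd : d ∣ (p - 1) * (1 + n * p))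
    (hd1 : (d : ℤ) ≡ 1 [ZMOD (p : ℤ)]) (hne : d ≠ 1) : d = 1 + n * p := by
  have hd0 : 0 < d := Nat.pos_of_dvd_of_pos hd (Nat.mul_pos (by have := hp.two_le; omega) (by omega))
  obtain ⟨U, hU⟩ : ∃ U, d = U * p + 1 := by
    have h := (Int.modEq_iff_dvd.1 hd1.symm)
    have h' : p ∣ d - 1 := by
      rw [← Int.natCast_dvd_natCast, Nat.cast_sub (by omega : 1 ≤ d)]
      exact_mod_cast h
    obtain ⟨U, hU⟩ := h'
    exact ⟨U, by rw [mul_comm]; omega⟩
  have hU0 : 0 < U := Nat.pos_of_ne_zero fun h => hne (by rw [hU, h]; ring)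
  obtain ⟨g, d₀, β, q, hg0, hdd, hβ, hq, hgg⟩ := exists_split hp.one_lt hd
  have hgU : g ∣ U + 1 := by
    have h1 : (g : ℤ) ∣ (d : ℤ) := ⟨d₀, by exact_mod_cast hdd⟩
    have h2 : (g : ℤ) ∣ ((p - 1 : ℕ) : ℤ) := ⟨β, by exact_mod_cast hβ⟩
    have h3 : ((U + 1 : ℕ) : ℤ) = (d : ℤ) - U * ((p - 1 : ℕ) : ℤ) := by
      rw [hU, Nat.cast_sub hp.one_lt.le]; push_cast; ring
    rw [← Int.natCast_dvd_natCast, h3]
    exact Int.dvd_sub h1 (h2.mul_left _)
  obtain ⟨m, hm⟩ := hgU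
  rcases lt_trichotomy q g with hlt | heq | hgt
  · exfalso
    have h1 : ((g : ℤ) - q) = (p : ℤ) * (U * q - g * n) := by
      have e1 : (g * d₀ : ℤ) = U * p + 1 := by exact_mod_cast hdd.symm.trans hU
      have e2 : (1 + n * p : ℤ) = d₀ * q := by exact_mod_cast hq
      linear_combination (g : ℤ) * e2 + (q : ℤ) * e1
    have h2 : p ∣ g - q := by
      rw [← Int.natCast_dvd_natCast, Nat.cast_sub hlt.le]
      exact ⟨_, h1⟩
    have h3 : g ≤ p - 1 := Nat.le_of_dvd (by have := hp.two_le; omega) ⟨β, hβ⟩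
    have h4 := Nat.le_of_dvd (by omega) h2
    have := hp.two_le
    omega
  · rw [hdd, hq, heq, mul_comm]
  · refine absurd (eqn_of_mul (R := m * q) hp.pos hU0 ?_ ?_) hE
    · have hm0 : 0 < m := Nat.pos_of_ne_zero fun h => by rw [h, mul_zero] at hm; omega
      rw [hm, mul_comm g]
      exact Nat.mul_lt_mul_of_pos_left hgt hm0
    · calc (U * p + 1) * (m * q) = g * d₀ * (m * q) := by rw [← hU, hdd]
        _ = g * m * (d₀ * q) := by ring
        _ = (U + 1) * (1 + n * p) := by rw [← hq, ← hm]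

/-- A divisor of `(p - 1)(1 + n p)` congruent to `-1`. -/
theorem minus {p n d : ℕ} (hp : p.Prime) (hE : ¬ Eqn p n) (hd : d ∣ (p - 1) * (1 + n * p))
    (hd1 : (d : ℤ) ≡ -1 [ZMOD (p : ℤ)]) (hne : d ≠ (p - 1) * (1 + n * p)) : d = p - 1 := by
  have hp2 := hp.two_le
  have hd0 : 0 < d := Nat.pos_of_dvd_of_pos hd (Nat.mul_pos (by omega) (by omega))
  have hdp : p ∣ d + 1 := by
    have h := Int.modEq_iff_dvd.1 hd1.symm
    rw [← Int.natCast_dvd_natCast]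
    push_cast
    simpa using h
  have hge : p - 1 ≤ d := by have := Nat.le_of_dvd (by omega) hdp; omega
  by_contra hne'
  obtain ⟨g, d₀, β, q, hg0, hdd, hβ, hq, hgg⟩ := exists_split hp.one_lt hd
  have e0 : ((p : ℤ) - 1) = g * β := by
    rw [← Nat.cast_one, ← Nat.cast_sub hp.one_lt.le, hβ]; push_cast; ring
  have e2 : (1 + n * p : ℤ) = d₀ * q := by exact_mod_cast hq
  have e1 : (d : ℤ) = g * d₀ := by exact_mod_cast hdd
  obtain ⟨k, hk⟩ := hdp
  have e3 : (d : ℤ) + 1 = p * k := by exact_mod_cast hk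
  -- `q + g` is a multiple of `p`
  have hqg : (p : ℤ) ∣ (q : ℤ) + g :=
    ⟨k * q - g * n, by linear_combination (g : ℤ) * e2 - (q : ℤ) * e1 + (q : ℤ) * e3⟩
  obtain ⟨m, hm⟩ : p ∣ q + g := by rw [← Int.natCast_dvd_natCast]; push_cast; exact hqg
  have hqβ : q * β + (p - 1) = β * m * p := by
    rw [hβ, show q * β + g * β = (q + g) * β by ring, hm]; ring
  have hβ0 : 0 < β := Nat.pos_of_ne_zero fun h => by rw [h, mul_zero] at hβ; omega
  have hm0 : 0 < m := Nat.pos_of_ne_zero fun h => by rw [h, mul_zero] at hm; omega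
  obtain ⟨U, hU⟩ : ∃ U, β * m = U + 1 := ⟨β * m - 1, by have := Nat.mul_pos hβ0 hm0; omega⟩
  have hqβ' : q * β = U * p + 1 := by rw [hU, add_mul, one_mul] at hqβ; omega
  have hU0 : 0 < U := by
    refine Nat.pos_of_ne_zero fun h => hne ?_
    rw [h, zero_mul, zero_add, mul_eq_one] at hqβ'
    rw [hdd, hβ, hq, hqβ'.1, hqβ'.2, mul_one, mul_one]
  refine hE (eqn_of_mul (R := d₀ * m) hp.pos hU0 ?_ ?_)
  · rw [← hU]
    refine Nat.mul_lt_mul_of_pos_right ?_ hm0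
    by_contra hle
    have h1 : g * d₀ ≤ g * β := Nat.mul_le_mul_left g (not_lt.1 hle)
    rw [← hdd, ← hβ] at h1
    omega
  · rw [← hqβ', ← hU, hq]; ring

theorem Eqn.lift {p n n' j : ℕ} (hp : 0 < p) (h : Eqn p n')
    (hn : 1 + n * p = (1 + n' * p) * (1 + j * p)) : Eqn p n := by
  obtain ⟨h₀, u, hh, hu, he⟩ := h
  refine eqn_of_mul (U := u) (R := (h₀ * p + u + 1) * (1 + j * p)) hp hu ?_ ?_
  · exact lt_of_lt_of_le (by have := Nat.mul_pos hh hp; omega)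
      (Nat.le_mul_of_pos_right _ (by omega))
  · rw [hn, ← mul_assoc, ← mul_assoc]
    congr 1
    calc (u * p + 1) * (h₀ * p + u + 1) = (u + 1) + (h₀ * u * p + u ^ 2 + u + h₀) * p := by ring
      _ = (u + 1) + n' * (u + 1) * p := by rw [he]
      _ = (u + 1) * (1 + n' * p) := by ring

theorem not_eqn_of_lt {p n : ℕ} (h : 2 * n < p + 3) : ¬ Eqn p n := by
  rintro ⟨h₀, u, hh, hu, he⟩
  have h1 : u * p ≤ h₀ * u * p := by
    rw [mul_assoc]; exact Nat.le_mul_of_pos_left _ hh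
  have h2 : 2 * n * (u + 1) ≤ (p + 2) * (u + 1) := Nat.mul_le_mul_right _ (by omega)
  nlinarith [Nat.mul_le_mul_right p hu, Nat.mul_le_mul hu hu]

end CfsgLib.BrauerPrime
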