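import Cfsg.Agent.BrauerPrime.Setup
import Cfsg.Agent.Blocks.CentralizerLocal
import Cfsg.Agent.Blocks.DefectZeroVanish

/-!
# The columns at the elements of order `p`
-/

set_option autoImplicit false
set_option linter.style.haveILetI false
set_option linter.unusedSectionVars false

namespace CfsgLib.BrauerPrime

open Cfsg Finset CfsgLib.Block CfsgLib.Block.Chr CfsgLib.BrauerPairs
open CfsgLib.Cyclic (deg)
open scoped ComplexConjugate

universe u

variable {G : Type u} [Group G] [Fintype G] {p : ℕ} [Fact p.Prime] {S : Sylow p G}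
  {M : Ideal AlgInt} [M.IsPrime] {c e n s : ℕ} {X Y : Finset (IrrCharacter G)}
  {sg : IrrCharacter G → ℤ} {ε : ℤ}

local notation "P" => (S : Subgroup G)
local notation "CP" => Subgroup.centralizer ((S : Subgroup G) : Set G)

theorem apply_one_eq (χ : IrrCharacter G) : (χ : G → ℂ) 1 = (deg χ : ℂ) := by
  rw [(irr_one χ).1]; norm_cast

theorem deg_pos (χ : IrrCharacter G) : 0 < deg χ := Int.natCast_pos.2 (irr_one χ).2

theorem Blk.spos (B : Blk M S e s X Y sg ε) : 0 < s := by
  refine Nat.pos_of_ne_zero fun h => ?_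
  have := B.hes
  rw [h, mul_zero, zero_add] at this
  exact (Fact.out : p.Prime).one_lt.ne this

theorem Blk.valP (B : Blk M S e s X Y sg ε) {χ : IrrCharacter G} (hχ : χ ∈ X) {z : G} (hz : z ∈ P)
    (hz1 : z ≠ 1) : (χ : G → ℂ) z = (sg χ : ℂ) := by
  have h := B.valX χ hχ z hz hz1 1 (one_mem _)
    (by rw [orderOf_one]; exact (Fact.out : p.Prime).not_dvd_one)
  rwa [mul_one] at h

theorem Blk.degY (B : Blk M S e s X Y sg ε) {θ : IrrCharacter G} (hθ : θ ∈ Y) :
    ε * deg θ = ∑ χ ∈ X, sg χ * deg χ := by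
  have h := B.rel θ hθ 1 (by rw [orderOf_one]; exact (Fact.out : p.Prime).not_dvd_one)
  simp only [apply_one_eq] at h
  exact_mod_cast h

theorem Blk.deg_agree (B : Blk M S e s X Y sg ε) {θ θ' : IrrCharacter G} (hθ : θ ∈ Y)
    (hθ' : θ' ∈ Y) : deg θ = deg θ' := by
  have h := B.agree θ hθ θ' hθ' 1 (by rw [orderOf_one]; exact (Fact.out : p.Prime).not_dvd_one)
  simp only [apply_one_eq] at h
  exact_mod_cast h

open Classical in
/-- **The exceptional column sum.** -/
theorem Blk.sumY (hM : IsPModular p M) (h : Setup G p S) (B : Blk M S e s X Y sg ε) {z : G}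
    (hz : z ∈ P) (hz1 : z ≠ 1) : ∑ θ ∈ Y, (θ : G → ℂ) z = -(ε : ℂ) := by
  letI := irrFintype (G := G)
  have h0 := weak_orth hM (isIntClass_blockCoeff (isPBlock_principal (M := M) (G := G)))
    (g := (1 : G)) (h := z) (by rw [orderOf_one]; exact (Fact.out : p.Prime).not_dvd_one)
    (by rw [orderOf_eq h hz hz1])
  rw [show univ.filter (· ∈ principalBlock M G) = X ∪ Y by
    ext χ; simp [B.mem], sum_union (disjoint_left.2 B.disj),
    sum_congr rfl fun χ (hχ : χ ∈ X) => show (χ : G → ℂ) 1 * conj ((χ : G → ℂ) z) =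
      (((sg χ * deg χ : ℤ)) : ℂ) by
        rw [B.valP hχ hz hz1, map_intCast, apply_one_eq]; push_cast; ring] at h0
  obtain ⟨θ₀, hθ₀⟩ := card_pos.1 (B.cardY ▸ B.spos : 0 < Y.card)
  rw [← Int.cast_sum, ← B.degY hθ₀,
    sum_congr rfl fun θ (hθ : θ ∈ Y) => show (θ : G → ℂ) 1 * conj ((θ : G → ℂ) z) =
      (deg θ₀ : ℂ) * conj ((θ : G → ℂ) z) by rw [apply_one_eq, B.deg_agree hθ hθ₀],
    ← mul_sum, ← map_sum] at h0
  have hd : (deg θ₀ : ℂ) ≠ 0 := by exact_mod_cast (deg_pos θ₀).ne'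
  have h1 : conj (∑ θ ∈ Y, (θ : G → ℂ) z) = -(ε : ℂ) := by
    refine mul_left_cancel₀ hd ?_
    push_cast at h0
    linear_combination h0
  have h2 := congrArg conj h1
  rwa [Complex.conj_conj, map_neg, map_intCast] at h2

theorem dvd_of_integral {d N : ℕ} {δ : ℤ} (hd : 0 < d) (hδ : δ = 1 ∨ δ = -1)
    (h : IsIntegral ℤ ((N : ℂ) * (δ : ℂ) / (d : ℂ))) : d ∣ N := by
  have h' : IsIntegral ℤ (((N : ℚ) * (δ : ℚ) / (d : ℚ) : ℚ) : ℂ) := by push_cast; exact h
  obtain ⟨w, hw⟩ := exists_int_of_isIntegral_ratCast h'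
  have hd' : (d : ℚ) ≠ 0 := Nat.cast_ne_zero.2 hd.ne'
  have h1 : ((N : ℤ) : ℚ) * (δ : ℚ) = (w : ℚ) * (d : ℚ) := by
    rw [Int.cast_natCast]
    exact (div_eq_iff hd').1 (by exact_mod_cast hw)
  have h2 : (N : ℤ) * δ = w * (d : ℤ) := by exact_mod_cast h1
  rw [← Int.natCast_dvd_natCast]
  rcases hδ with e' | e' <;> subst e'
  · exact ⟨w, by linarith⟩
  · exact ⟨-w, by linarith⟩

/-- The degrees in `X` divide `e (1 + n p)`. -/
theorem Blk.dvdX (h : Setup G p S) (num : Num S c e n) (B : Blk M S e s X Y sg ε)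
    {χ : IrrCharacter G} (hχ : χ ∈ X) : charDegree (χ : G → ℂ) ∣ e * (1 + n * p) := by
  obtain ⟨z, hz, hz1⟩ := exists_ne_one h
  refine dvd_of_integral (irr_one χ).2 (B.sign χ hχ) ?_
  have h1 := CfsgLib.Char.IsIrrCharacter.isIntegral_class_mul_div χ.2 z
  rwa [num.index z hz hz1, B.valP hχ hz hz1, (irr_one χ).1] at h1

/-- The exceptional degree divides `e (1 + n p)`. -/
theorem Blk.dvdY (hM : IsPModular p M) (h : Setup G p S) (num : Num S c e n)
    (B : Blk M S e s X Y sg ε) {θ : IrrCharacter G} (hθ : θ ∈ Y) :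
    charDegree (θ : G → ℂ) ∣ e * (1 + n * p) := by
  obtain ⟨z, hz, hz1⟩ := exists_ne_one h
  refine dvd_of_integral (irr_one θ).2 (δ := -ε) (by rcases B.signY with e' | e' <;> simp [e']) ?_
  push_cast
  rw [← B.sumY hM h hz hz1, mul_sum, sum_div]
  refine IsIntegral.sum _ fun θ' hθ' => ?_
  have h1 := CfsgLib.Char.IsIrrCharacter.isIntegral_class_mul_div θ'.2 z
  rw [num.index z hz hz1, apply_one_eq θ', B.deg_agree hθ' hθ, ← apply_one_eq θ,
    (irr_one θ).1] at h1
  exact_mod_cast h1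

/-- A member of `X` of degree `p - 1` forces `C(P) = P`. -/
theorem Blk.c_eq_one (hM : IsPModular p M) (h : Setup G p S) (num : Num S c e n)
    (B : Blk M S e s X Y sg ε) {χ : IrrCharacter G} (hχ : χ ∈ X)
    (hdeg : charDegree (χ : G → ℂ) = p - 1) (hsg : sg χ = -1) : c = 1 := by
  classical
  have hp : p.Prime := Fact.out
  have hp2 := hp.two_le
  set hc := isCharacter_irr χ
  haveI := CfsgLib.Char.kerSubgroup_normal hc
  have hker : ∀ g : G, (χ : G → ℂ) g = (χ : G → ℂ) 1 → g = 1 := by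
    intro g hg
    have hbot : CfsgLib.Char.kerSubgroup hc = ⊥ := h.core _ inferInstance fun hd => by
      obtain ⟨⟨w, hw⟩, hwo⟩ := exists_prime_orderOf_dvd_card' p hd
      have hwo' : orderOf w = p := by
        rw [← hwo, ← Subgroup.orderOf_coe]
      obtain ⟨Q, hQ⟩ := (IsPGroup.of_card (n := 1) (by rw [Nat.card_zpowers, hwo', pow_one]) :
        IsPGroup p (Subgroup.zpowers w)).exists_le_sylow
      obtain ⟨a, ha⟩ := MulAction.exists_smul_eq G Q S
      have hwS : a * w * a⁻¹ ∈ P := by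
        rw [← ha]; exact ⟨w, hQ (Subgroup.mem_zpowers w), rfl⟩
      have hne : a * w * a⁻¹ ≠ 1 := fun e1 => by
        rw [mul_inv_eq_one] at e1
        rw [mul_eq_left.1 e1, orderOf_one] at hwo'
        exact hp.one_lt.ne hwo'
      have h1 := ((CfsgLib.Char.mem_kerSubgroup hc _).1
        ((inferInstance : (CfsgLib.Char.kerSubgroup hc).Normal).conj_mem _ hw a))
      rw [B.valP hχ hwS hne, hsg, (irr_one χ).1, hdeg, Nat.cast_sub hp.one_lt.le] at h1
      push_cast at h1
      have h2 : ((p : ℕ) : ℂ) = ((0 : ℕ) : ℂ) := by push_cast; linear_combination -h1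
      exact hp.ne_zero (Nat.cast_inj.1 h2)
    exact (Subgroup.eq_bot_iff_forall _).1 hbot g ((CfsgLib.Char.mem_kerSubgroup hc g).2 hg)
  by_contra hne
  obtain ⟨q, hq, hqc⟩ := Nat.exists_prime_and_dvd hne
  haveI := Fact.mk hq
  have hqp : q ≠ p := fun e1 => by
    have h1 : p * p ∣ Nat.card CP := num.cardC ▸ Nat.mul_dvd_mul_left p (e1 ▸ hqc)
    have h2 : p ^ 2 ∣ Nat.card (P) := by
      rw [S.card_eq_multiplicity]
      refine pow_dvd_pow p ((hp.pow_dvd_iff_le_factorization Nat.card_pos.ne').1 ?_)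
      rw [sq]; exact h1.trans (Subgroup.card_subgroup_dvd_card _)
    rw [show Nat.card (P) = p from h.cardP] at h2
    have h3 := Nat.le_of_dvd hp.pos h2
    nlinarith
  obtain ⟨⟨y, hy⟩, hyo⟩ := exists_prime_orderOf_dvd_card' (G := CP) q
    (num.cardC ▸ Dvd.dvd.mul_left hqc p)
  have hyo' : orderOf y = q := by rw [← hyo, ← Subgroup.orderOf_coe]
  have hy1 := CfsgLib.SmallFaithful.eq_one hM h.perfect S ((B.mem χ).2 (Or.inl hχ)) hker
    (by rw [hdeg]; omega) hy (fun hd => hqp ((Nat.prime_dvd_prime_iff_eq hp hq).1 (hyo' ▸ hd)).symm)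
  rw [hy1, orderOf_one] at hyo'
  exact hq.one_lt.ne hyo'

/-- With `C(P) = P` the characters outside the principal block have defect zero. -/
theorem outside (hM : IsPModular p M) (h : Setup G p S) (num : Num S 1 e n) {φ : IrrCharacter G}
    (hφ : φ ∉ principalBlock M G) :
    p ∣ charDegree (φ : G → ℂ) ∧ ∀ g : G, p ∣ orderOf g → (φ : G → ℂ) g = 0 := by
  classical
  have hp : p.Prime := Fact.out
  have hB : IsPBlock M (blockOf M (φ : G → ℂ)) := isPBlock_blockOf φ
  obtain ⟨D, hD⟩ := exists_defectGroup hB hM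
  have hbot : D = ⊥ := by
    by_contra hne
    have hDp : IsPGroup p D := isPGroup_defectGroup hD
    have hdvd : p ∣ Nat.card D := by
      obtain ⟨k, hk⟩ := IsPGroup.iff_card.1 hDp
      rcases Nat.eq_zero_or_pos k with h0 | h0
      · rw [h0, pow_zero] at hk
        exact absurd (Subgroup.eq_bot_of_card_eq _ hk) hne
      · rw [hk]; exact dvd_pow_self p h0.ne'
    obtain ⟨⟨w, hw⟩, hwo⟩ := exists_prime_orderOf_dvd_card' p hdvd
    have hwo' : orderOf w = p := by rw [← hwo, ← Subgroup.orderOf_coe]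
    obtain ⟨Q, hQ⟩ := (IsPGroup.of_card (n := 1) (by rw [Nat.card_zpowers, hwo', pow_one]) :
      IsPGroup p (Subgroup.zpowers w)).exists_le_sylow
    have hQc : Nat.card (Q : Subgroup G) = p := by
      rw [Q.card_eq_multiplicity, ← S.card_eq_multiplicity]; exact h.cardP
    have hw1 : w ≠ 1 := fun e1 => by rw [e1, orderOf_one] at hwo'; exact hp.one_lt.ne hwo'
    have hQsetup : Setup G p Q := ⟨hQc, h.perfect, h.core⟩
    have hcard : Nat.card (Subgroup.centralizer ({w} : Set G)) = p := by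
      obtain ⟨a, ha⟩ := MulAction.exists_smul_eq G Q S
      have hwS : a * w * a⁻¹ ∈ P := by
        rw [← ha]; exact ⟨w, hQ (Subgroup.mem_zpowers w), rfl⟩
      have hne' : a * w * a⁻¹ ≠ 1 := fun e1 => hw1 (mul_eq_left.1 (mul_inv_eq_one.1 e1))
      have h1 := num.index _ hwS hne'
      have h2 : (Subgroup.centralizer ({w} : Set G)).index = e * (1 + n * p) := by
        rw [← h1, ← CfsgLib.Char.card_conj_class, ← CfsgLib.Char.card_conj_class]
        refine Nat.card_congr (Equiv.subtypeEquivRight fun x => ?_)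
        have hc : IsConj w (a * w * a⁻¹) := isConj_iff.2 ⟨a, rfl⟩
        exact ⟨fun hx => hc.symm.trans hx, fun hx => hc.trans hx⟩
      refine Nat.eq_of_mul_eq_mul_right (show 0 < e * (1 + n * p) by
        have := num.epos; positivity) ?_
      rw [← h2, Subgroup.card_mul_index, h2, num.cardG]; ring
    have hpg : IsPGroup p (Subgroup.centralizer ({w} : Set G)) :=
      IsPGroup.of_card (n := 1) (by rw [hcard, pow_one])
    haveI : Fintype (Subgroup.centralizer ({w} : Set G)) := Fintype.ofFinite _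
    have hB' := eq_principal_of_mem_defectGroup hM (fun a b =>
      sameBlock_of_normal_centralizer hM ⊤ (hpg.to_subgroup _) (hpg.to_subgroup _) a b) hB hD hw
    exact hφ (hB' ▸ (sameBlock_refl _ : φ ∈ blockOf M (φ : G → ℂ)))
  subst hbot
  have h1 := pow_dvd_degree_of_bot hM hB hD (χ := φ) (sameBlock_refl _)
  have hf : (Nat.card G).factorization p ≠ 0 := by
    refine (hp.factorization_pos_of_dvd Nat.card_pos.ne' ?_).ne'
    exact h.cardP ▸ Subgroup.card_subgroup_dvd_card P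
  exact ⟨(dvd_pow_self p hf).trans h1, fun g hg => eq_zero_of_defectZero hp φ h1 hg⟩

end CfsgLib.BrauerPrime
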