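import Cfsg.Agent.BrauerPrime.Setup
import Mathlib.GroupTheory.SchurZassenhaus
import Mathlib.LinearAlgebra.PID

/-!
# The complement of a self-centralizing subgroup of prime order in its normalizer
-/

set_option autoImplicit false
set_option linter.style.haveILetI false
set_option linter.unusedSectionVars false

namespace CfsgLib.BrauerPrime

open Cfsg Finset CfsgLib.Block.Chr

universe u

variable {G : Type u} [Group G] [Fintype G] {p : ℕ} [Fact p.Prime] {S : Sylow p G} {e n : ℕ}

local notation "P" => (S : Subgroup G)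
local notation "NP" => Subgroup.normalizer ((S : Subgroup G) : Set G)

/-- A complement of `P` in `N(P)`. -/
structure Comp (S : Sylow p G) (E : Subgroup G) (e : ℕ) : Prop where
  le : E ≤ Subgroup.normalizer ((S : Subgroup G) : Set G)
  card : Nat.card E = e
  cyclic : IsCyclic E
  fus : ∀ y ∈ E, y ≠ 1 → ∀ u ∈ (S : Subgroup G), IsConj y (u * y)
  not_dvd : ∀ y ∈ E, ¬ p ∣ orderOf y
  inj : ∀ u ∈ (S : Subgroup G), ∀ y ∈ E, u * y = 1 → y = 1

theorem exists_comp (h : Setup G p S) (num : Num S 1 e n) : ∃ E, Comp S E e := by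
  classical
  have hp : p.Prime := Fact.out
  set P' : Subgroup NP := (P).subgroupOf NP with hP'
  have hle : P ≤ NP := Subgroup.le_normalizer
  haveI : P'.Normal := Subgroup.normal_subgroupOf_iff_le_normalizer hle |>.2 le_rfl
  have hcP : Nat.card P' = p :=
    (Nat.card_congr (Subgroup.subgroupOfEquivOfLe hle).toEquiv).trans h.cardP
  have hidx : P'.index = e := by
    have h1 := P'.card_mul_index
    rw [hcP, num.cardN, mul_one] at h1
    exact Nat.eq_of_mul_eq_mul_left hp.pos h1
  have hpe : ¬ p ∣ e := fun hd => by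
    have h1 : p * p ∣ Nat.card G := num.cardG ▸ by
      rw [mul_one]; exact Dvd.dvd.mul_right (Nat.mul_dvd_mul_left p hd) _
    have h2 : p ^ 2 ∣ Nat.card (P) := by
      rw [S.card_eq_multiplicity]
      refine pow_dvd_pow p ((hp.pow_dvd_iff_le_factorization Nat.card_pos.ne').1 ?_)
      rw [sq]; exact h1
    rw [show Nat.card (P) = p from h.cardP] at h2
    nlinarith [Nat.le_of_dvd hp.pos h2, hp.two_le]
  obtain ⟨K, hK⟩ := Subgroup.exists_right_complement'_of_coprime (N := P')
    (by rw [hcP, hidx]; exact hp.coprime_iff_not_dvd.2 hpe)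
  set E := K.map (Subgroup.subtype NP)
  have hEle : E ≤ NP := Subgroup.map_subtype_le _
  have hcE : Nat.card E = e := by
    rw [Subgroup.card_map_of_injective (Subgroup.subtype_injective _)]
    have h1 := hK.card_mul
    rw [hcP, num.cardN, mul_one] at h1
    exact Nat.eq_of_mul_eq_mul_left hp.pos h1
  have hnd : ∀ y ∈ E, ¬ p ∣ orderOf y := fun y hy hd =>
    hpe (hd.trans (hcE ▸ Subgroup.orderOf_dvd_natCard E hy))
  have hEP : ∀ y ∈ E, y ∈ P → y = 1 := by
    intro y hy hyP
    by_contra h1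
    exact hnd y hy (orderOf_eq h hyP h1).symm.dvd
  have hfix : ∀ y ∈ E, ∀ u ∈ P, u ≠ 1 → y * u = u * y → y = 1 := by
    intro y hy u hu hu1 hc
    refine hEP y hy ?_
    have hCc : Nat.card (Subgroup.centralizer ((P) : Set G)) = p := by rw [num.cardC, mul_one]
    rw [Subgroup.eq_of_le_of_card_ge (le_centralizer h)
      (by rw [hCc, show Nat.card (P) = p from h.cardP]), ← centralizer_singleton h hu hu1]
    exact Subgroup.mem_centralizer_singleton_iff.2 hc
  refine ⟨E, hEle, hcE, ?_, ?_, hnd, ?_⟩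
  · haveI : IsCyclic P := isCyclic_of_prime_card h.cardP
    haveI : Fact (Nat.Prime (Nat.card (P))) := ⟨by rw [show Nat.card (P) = p from h.cardP]; exact hp⟩
    haveI : IsCyclic (MulAut P) := isCyclic_of_injective (IsCyclic.mulAutMulEquiv P).toMonoidHom
      (IsCyclic.mulAutMulEquiv P).injective
    let f : E →* MulAut P := (Subgroup.normalizerMonoidHom P).comp (Subgroup.inclusion hEle)
    refine isCyclic_of_injective f ((injective_iff_map_eq_one _).2 fun y hy => Subtype.ext ?_)
    obtain ⟨u, hu, hu1⟩ := exists_ne_one h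
    have h1 : (Subgroup.inclusion hEle y) ∈ (Subgroup.normalizerMonoidHom P).ker := hy
    rw [Subgroup.normalizerMonoidHom_ker, Subgroup.mem_subgroupOf] at h1
    exact hfix _ y.2 u hu hu1 (Subgroup.mem_centralizer_iff.1 h1 u hu).symm
  · intro y hy hy1 u hu
    let F : P → P := fun v => ⟨(v : G) * y * (v : G)⁻¹ * y⁻¹, by
      rw [show (v : G) * y * (v : G)⁻¹ * y⁻¹ = (v : G) * (y * (v : G)⁻¹ * y⁻¹) by group]
      exact mul_mem v.2 ((Subgroup.mem_normalizer_iff.1 (hEle hy) _).1 (inv_mem v.2))⟩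
    have hF : Function.Injective F := fun a b hab => by
      have h1 : (a : G) * y * (a : G)⁻¹ * y⁻¹ = (b : G) * y * (b : G)⁻¹ * y⁻¹ :=
        congrArg Subtype.val hab
      by_contra hne
      refine hy1 (hfix y hy ((b : G)⁻¹ * a) (mul_mem (inv_mem b.2) a.2)
        (fun h0 => hne (Subtype.ext (inv_mul_eq_one.1 h0).symm)) ?_)
      calc y * ((b : G)⁻¹ * a) = (b : G)⁻¹ * ((b : G) * y * (b : G)⁻¹ * y⁻¹) * y * a := by group
        _ = (b : G)⁻¹ * a * y := by rw [← h1]; group
    obtain ⟨v, hv⟩ := (Finite.injective_iff_surjective.1 hF) ⟨u, hu⟩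
    refine isConj_iff.2 ⟨v, ?_⟩
    rw [← show (v : G) * y * (v : G)⁻¹ * y⁻¹ = u from congrArg Subtype.val hv]
    group
  · intro u hu y hy he
    refine hEP y hy ?_
    rw [eq_inv_of_mul_eq_one_right he]
    exact inv_mem hu

/-- The multiplicities of the trivial character on `P` and on `N(P)`. -/
theorem exists_mult (h : Setup G p S) (num : Num S 1 e n) {E : Subgroup G} (hE : Comp S E e)
    [Fintype (P)] [Fintype E] [DecidableEq E] (χ : IrrCharacter G) :
    ∃ m a : ℕ, ∑ u : P, (χ : G → ℂ) u = (p : ℂ) * m ∧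
      (m : ℂ) + ∑ y ∈ univ.erase (1 : E), (χ : G → ℂ) y = (e : ℂ) * a ∧
      ∀ y ∈ E, y ≠ 1 → ‖(χ : G → ℂ) y‖ ≤ (m : ℝ) := by
  classical
  have hp : p.Prime := Fact.out
  have hle : P ≤ NP := Subgroup.le_normalizer
  have hp0 : (p : ℂ) ≠ 0 := Nat.cast_ne_zero.2 hp.ne_zero
  obtain ⟨m, hm⟩ := CfsgLib.Char.IsCharacter.exists_classInner_eq_natCast
    (CfsgLib.Char.IsCharacter.restrict (isCharacter_irr χ) (P)) CfsgLib.Char.isIrrCharacter_one
  have hm' : ∑ u : P, (χ : G → ℂ) u = (p : ℂ) * m := by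
    rw [← hm, CfsgLib.Char.classInner_def, show Nat.card (P) = p from h.cardP, ← mul_assoc,
      mul_inv_cancel₀ hp0, one_mul]
    simp
  haveI : Fintype (NP : Subgroup G) := Fintype.ofFinite _
  obtain ⟨a, ha⟩ := CfsgLib.Char.IsCharacter.exists_classInner_eq_natCast
    (CfsgLib.Char.IsCharacter.restrict (isCharacter_irr χ) NP) CfsgLib.Char.isIrrCharacter_one
  let f : P × E → (NP : Subgroup G) := fun w =>
    ⟨(w.1 : G) * w.2, mul_mem (hle w.1.2) (hE.le w.2.2)⟩
  have hf : Function.Bijective f := by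
    refine (Fintype.bijective_iff_injective_and_card f).2 ⟨fun w w' hw => ?_, ?_⟩
    · have h1 : (w.1 : G) * w.2 = (w'.1 : G) * w'.2 := congrArg Subtype.val hw
      have h2 : (w.2 : G) * (w'.2 : G)⁻¹ = 1 := hE.inj ((w'.1 : G)⁻¹ * w.1)
        (mul_mem (inv_mem w'.1.2) w.1.2) _ (mul_mem w.2.2 (inv_mem w'.2.2)) (by
          rw [show (w'.1 : G)⁻¹ * w.1 * ((w.2 : G) * (w'.2 : G)⁻¹) =
            (w'.1 : G)⁻¹ * ((w.1 : G) * w.2) * (w'.2 : G)⁻¹ by group, h1]; group)
      have h3 : w.2 = w'.2 := Subtype.ext (mul_inv_eq_one.1 h2)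
      rw [h3] at h1
      exact Prod.ext (Subtype.ext (mul_right_cancel h1)) h3
    · rw [Fintype.card_prod, ← Nat.card_eq_fintype_card, ← Nat.card_eq_fintype_card,
        ← Nat.card_eq_fintype_card, num.cardN, hE.card, show Nat.card (P) = p from h.cardP,
        mul_one]
  have hconst : ∀ y : E, y ≠ 1 → ∀ u : P, (χ : G → ℂ) ((u : G) * y) = (χ : G → ℂ) y :=
    fun y hy u => (CfsgLib.Char.IsClassFunction.apply_eq_of_isConj (isClassFunction_irr χ)
      (hE.fus y y.2 (fun h1 => hy (Subtype.ext h1)) u u.2)).symm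
  refine ⟨m, a, hm', ?_, ?_⟩
  · rw [CfsgLib.Char.classInner_def, num.cardN] at ha
    have h1 : ∑ g : (NP : Subgroup G), (χ : G → ℂ) g =
        (p : ℂ) * m + (p : ℂ) * ∑ y ∈ univ.erase (1 : E), (χ : G → ℂ) y := by
      rw [← Fintype.sum_bijective f hf (fun w => (χ : G → ℂ) ((w.1 : G) * w.2)) _ fun _ => rfl,
        Fintype.sum_prod_type_right, ← add_sum_erase _ _ (mem_univ (1 : E)), mul_sum]
      congr 1
      · rw [← hm']; exact sum_congr rfl fun u _ => by rw [OneMemClass.coe_one, mul_one]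
      · refine sum_congr rfl fun y hy => ?_
        rw [sum_congr rfl fun u _ => hconst y (ne_of_mem_erase hy) u, sum_const, card_univ,
          ← Nat.card_eq_fintype_card, show Nat.card (P) = p from h.cardP, nsmul_eq_mul]
    simp only [map_one, mul_one, Nat.cast_mul] at ha
    rw [h1] at ha
    have he0 : (e : ℂ) ≠ 0 := Nat.cast_ne_zero.2 (by have := num.epos; omega)
    field_simp at ha
    exact ha
  · intro y hy hy1
    obtain ⟨d, ρ, hρ, hρχ⟩ := χ.2
    set π : Module.End ℂ (Fin d → ℂ) := (p : ℂ)⁻¹ • ∑ u : P, ρ u with hπ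
    have hfixu : ∀ u : P, ρ u * π = π := fun u => by
      rw [hπ, mul_smul_comm, mul_sum]
      congr 1
      exact Fintype.sum_equiv (Equiv.mulLeft u) _ _ fun v => by simp [map_mul]
    have hidem : π * π = π := by
      conv_lhs => arg 1; rw [hπ]
      rw [smul_mul_assoc, sum_mul, sum_congr rfl fun u _ => hfixu u, sum_const, card_univ,
        ← Nat.card_eq_fintype_card, show Nat.card (P) = p from h.cardP,
        ← Nat.cast_smul_eq_nsmul ℂ, smul_smul, inv_mul_cancel₀ hp0, one_smul]
    have htr : LinearMap.trace ℂ _ π = m := by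
      rw [hπ, map_smul, map_sum, show ∑ u : P, LinearMap.trace ℂ _ (ρ u) = ∑ u : P, (χ : G → ℂ) u by
        rw [← hρχ]; rfl, hm', smul_eq_mul, ← mul_assoc, inv_mul_cancel₀ hp0, one_mul]
    have hcomm : ∀ w : E, ρ w * π = π * ρ w := fun w => by
      have hw := Subgroup.mem_normalizer_iff.1 (hE.le w.2)
      let σ : P ≃ P :=
        { toFun := fun u => ⟨(w : G) * u * (w : G)⁻¹, (hw _).1 u.2⟩
          invFun := fun u => ⟨(w : G)⁻¹ * u * w, (hw _).2 (by
            rw [show (w : G) * ((w : G)⁻¹ * u * w) * (w : G)⁻¹ = (u : G) by group]; exact u.2)⟩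
          left_inv := fun u => Subtype.ext (by group)
          right_inv := fun u => Subtype.ext (by group) }
      rw [hπ, mul_smul_comm, smul_mul_assoc, mul_sum, sum_mul]
      congr 1
      refine Fintype.sum_equiv σ _ _ fun u => ?_
      rw [← map_mul, ← map_mul]
      congr 1
      show (w : G) * u = (w : G) * u * (w : G)⁻¹ * w
      group
    set W := LinearMap.range π with hW
    have hWdim : Module.finrank ℂ W = m := by
      have h1 := (LinearMap.IsIdempotentElem.isProj_range π hidem).trace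
      rw [htr] at h1
      exact_mod_cast h1.symm
    have hmaps : ∀ w : E, ∀ v ∈ W, ρ w v ∈ W := fun w v hv => by
      obtain ⟨v', rfl⟩ := hv
      exact ⟨ρ w v', (DFunLike.congr_fun (hcomm w) v').symm⟩
    let τ : Representation ℂ E W :=
      { toFun := fun w => (ρ (w : G)).restrict (hmaps w)
        map_one' := LinearMap.ext fun v => Subtype.ext (by simp)
        map_mul' := fun w w' => LinearMap.ext fun v => Subtype.ext (by simp) }
    have hτ : τ.character ⟨y, hy⟩ = (χ : G → ℂ) y := by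
      have h2 : (ρ y * π).restrict (p := W) (q := W) (fun v _ =>
          (DFunLike.congr_fun (hcomm ⟨y, hy⟩) v) ▸ ⟨ρ y v, rfl⟩) = τ ⟨y, hy⟩ := by
        refine LinearMap.ext fun v => Subtype.ext ?_
        obtain ⟨v', hv'⟩ := v.2
        show ρ y (π v) = ρ y v
        rw [← hv']
        exact congrArg (ρ y) (DFunLike.congr_fun hidem v')
      show LinearMap.trace ℂ W (τ ⟨y, hy⟩) = _
      rw [← h2, LinearMap.trace_restrict_eq_of_forall_mem W _ (fun v =>
          (DFunLike.congr_fun (hcomm ⟨y, hy⟩) v) ▸ ⟨ρ y v, rfl⟩), hπ, mul_smul_comm, map_smul,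
        mul_sum, map_sum,
        sum_congr rfl fun u (_ : u ∈ (univ : Finset (P))) =>
          show LinearMap.trace ℂ _ (ρ y * ρ u) = (χ : G → ℂ) y by
            rw [LinearMap.trace_mul_comm, ← map_mul]
            refine Eq.trans ?_ (hconst ⟨y, hy⟩ (fun h1 => hy1 (congrArg Subtype.val h1)) u)
            rw [← hρχ]; rfl,
        sum_const, card_univ, ← Nat.card_eq_fintype_card, show Nat.card (P) = p from h.cardP,
        smul_eq_mul, nsmul_eq_mul, ← mul_assoc, inv_mul_cancel₀ hp0, one_mul]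
    rw [← hτ, ← hWdim]
    exact CfsgLib.Char.norm_character_le τ _

end CfsgLib.BrauerPrime
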