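import Cfsg.Agent.BrauerPrime.Columns
import Cfsg.Agent.BrauerPrime.Arith
import Cfsg.Agent.BlocksB.SelfCentralizingDegree

/-!
# The degrees in the principal block when Brauer's equation has no solution
-/

set_option autoImplicit false
set_option linter.style.haveILetI false
set_option linter.unusedSectionVars false

namespace CfsgLib.BrauerPrime

open Cfsg Finset CfsgLib.Block CfsgLib.Block.Chr CfsgLib.BrauerPairs
open CfsgLib.Cyclic (deg)
open scoped ComplexConjugate

universe u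

variable {G : Type u} [Group G] [Fintype G] {p : ℕ} [Fact p.Prime] {S : Sylow p G}
  {M : Ideal AlgInt} [M.IsPrime] {c e n s : ℕ} {X Y : Finset (IrrCharacter G)}
  {sg : IrrCharacter G → ℤ} {ε : ℤ}

local notation "P" => (S : Subgroup G)

theorem deg_sq_le (χ : IrrCharacter G) : deg χ ^ 2 ≤ Nat.card G := by
  classical
  letI := irrFintype (G := G)
  have h := column_orth (G := G) 1 1
  rw [if_pos (IsConj.refl _), show Subgroup.centralizer ({(1 : G)} : Set G) = ⊤ by
    ext g; simp [Subgroup.mem_centralizer_singleton_iff], Subgroup.card_top] at h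
  simp only [apply_one_eq, map_intCast] at h
  have h' : ∑ ψ : IrrCharacter G, deg ψ * deg ψ = Nat.card G := by exact_mod_cast h
  rw [sq, ← h']
  exact single_le_sum (f := fun ψ : IrrCharacter G => deg ψ * deg ψ)
    (fun _ _ => mul_self_nonneg _) (mem_univ χ)

theorem Blk.e_le (B : Blk M S e s X Y sg ε) : e ≤ p - 1 := by
  have := B.hes
  have := Nat.le_mul_of_pos_right e B.spos
  omega

/-- The degrees of `X`. -/
theorem Blk.degX (h : Setup G p S) (num : Num S c e n) (hE : ¬ Eqn p n)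
    (B : Blk M S e s X Y sg ε) {χ : IrrCharacter G} (hχ : χ ∈ X) (hne : χ ≠ trivIrr G) :
    (sg χ = 1 ∧ deg χ = (1 + n * p : ℕ)) ∨ (sg χ = -1 ∧ deg χ = (p - 1 : ℕ)) ∨
      (sg χ = -1 ∧ deg χ = ((p - 1) * (1 + n * p) : ℕ)) := by
  have hp : p.Prime := Fact.out
  have hdvd : charDegree (χ : G → ℂ) ∣ (p - 1) * (1 + n * p) :=
    (B.dvdX h num hχ).trans (Nat.mul_dvd_mul_right ⟨s, by have := B.hes; omega⟩ _)
  rcases B.sign χ hχ with h1 | h1
  · refine Or.inl ⟨h1, ?_⟩
    have h2 := plus hp hE hdvd (by have h3 := B.congX χ hχ; rwa [h1] at h3) fun h3 =>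
      hne (eq_trivIrr h (show (charDegree (χ : G → ℂ) : ℤ) = 1 by rw [h3]; rfl))
    show (charDegree (χ : G → ℂ) : ℤ) = _
    rw [h2]
  · rcases eq_or_ne (charDegree (χ : G → ℂ)) ((p - 1) * (1 + n * p)) with h2 | h2
    · exact Or.inr (Or.inr ⟨h1, congrArg Nat.cast h2⟩)
    · refine Or.inr (Or.inl ⟨h1, ?_⟩)
      have h3 := minus hp hE hdvd (by have h4 := B.congX χ hχ; rwa [h1] at h4) h2
      show (charDegree (χ : G → ℂ) : ℤ) = _
      rw [h3]

theorem Blk.exists_minus (hM : IsPModular p M) (h : Setup G p S) (num : Num S c e n)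
    (hE : ¬ Eqn p n) (B : Blk M S e s X Y sg ε) :
    ∃ χ ∈ X, sg χ = -1 ∧ charDegree (χ : G → ℂ) = p - 1 := by
  classical
  have hp : p.Prime := Fact.out
  have hp2 := hp.two_le
  have he := num.epos
  have hn := num.npos
  by_contra hno
  push Not at hno
  obtain ⟨θ, hθ⟩ := card_pos.1 (B.cardY ▸ B.spos : 0 < Y.card)
  set d1 : ℤ := 1 + n * p with hd1
  have hsum : ∀ χ ∈ X.erase (trivIrr G),
      sg χ * deg χ = d1 * (if sg χ = 1 then 1 else -((p : ℤ) - 1)) := by
    intro χ hχ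
    rcases B.degX h num hE (mem_of_mem_erase hχ) (ne_of_mem_erase hχ) with h1 | h1 | h1
    · rw [h1.1, if_pos rfl, h1.2, hd1]; push_cast; ring
    · exact absurd (Int.natCast_inj.1 h1.2) (hno χ (mem_of_mem_erase hχ) h1.1)
    · rw [h1.1, if_neg (by norm_num), h1.2, hd1]
      push_cast [Nat.cast_sub hp.one_lt.le]
      ring
  set A := ((X.erase (trivIrr G)).filter fun χ => sg χ = 1).card
  set D := ((X.erase (trivIrr G)).filter fun χ => ¬ sg χ = 1).card
  have hAD : A + D = e - 1 := by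
    rw [card_filter_add_card_filter_not, card_erase_of_mem B.triv, B.cardX]
  set K : ℤ := (A : ℤ) - ((p : ℤ) - 1) * D with hKdef
  have hx : ε * deg θ = 1 + d1 * K := by
    rw [B.degY hθ, ← add_sum_erase X _ B.triv, B.sgTriv, deg_trivIrr, sum_congr rfl hsum,
      ← mul_sum, sum_ite, sum_const, sum_const, nsmul_eq_mul, nsmul_eq_mul, one_mul, hKdef]
    ring
  set x := charDegree (θ : G → ℂ)
  have hxdeg : deg θ = (x : ℤ) := rfl
  have hcop : Nat.Coprime x (1 + n * p) := by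
    refine Nat.coprime_of_dvd fun q hq hqx hqd => ?_
    have h1 : (q : ℤ) ∣ ε * deg θ := Dvd.dvd.mul_left (hxdeg ▸ Int.natCast_dvd_natCast.2 hqx) _
    have h2 : (q : ℤ) ∣ d1 := by
      rw [hd1]
      simpa using Int.natCast_dvd_natCast.2 hqd
    rw [hx] at h1
    have h3 : (q : ℤ) ∣ 1 := by simpa using Int.dvd_sub h1 (h2.mul_right K)
    exact hq.not_dvd_one (by exact_mod_cast h3)
  have hxe : x ≤ e := Nat.le_of_dvd (by omega) (hcop.dvd_of_dvd_mul_right (B.dvdY hM h num hθ))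
  have hep := B.e_le
  have hxp : (x : ℤ) ≤ (p : ℤ) - 1 := by
    have : x ≤ p - 1 := hxe.trans hep
    omega
  have hnp : (p : ℤ) ≤ (n : ℤ) * p := le_mul_of_one_le_left (by positivity) (by exact_mod_cast hn)
  have hd1' : (p : ℤ) + 1 ≤ d1 := by rw [hd1]; omega
  have hK0 : K = 0 := by
    rw [hxdeg] at hx
    have hx0 : (0 : ℤ) ≤ x := Nat.cast_nonneg _
    rcases lt_trichotomy K 0 with hK | hK | hK
    · exfalso
      have h1 : d1 * K ≤ d1 * (-1) := mul_le_mul_of_nonneg_left (by omega) (by omega)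
      rcases B.signY with e' | e' <;> rw [e'] at hx <;> omega
    · exact hK
    · exfalso
      have h1 : d1 * 1 ≤ d1 * K := mul_le_mul_of_nonneg_left (by omega) (by omega)
      rcases B.signY with e' | e' <;> rw [e'] at hx <;> omega
  have hA : A = (p - 1) * D := by
    have : (A : ℤ) = (((p - 1) * D : ℕ) : ℤ) := by
      rw [Nat.cast_mul, Nat.cast_sub hp.one_lt.le, Nat.cast_one]
      rw [hKdef] at hK0
      linarith
    exact_mod_cast this
  have hD : D = 0 := by
    by_contra hD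
    have h1 : p - 1 ≤ (p - 1) * D := Nat.le_mul_of_pos_right _ (Nat.pos_of_ne_zero hD)
    omega
  rw [hD, mul_zero] at hA
  omega

theorem Blk.degX_one (hM : IsPModular p M) (h : Setup G p S) (num : Num S 1 e n)
    (hE : ¬ Eqn p n) (B : Blk M S e s X Y sg ε) {χ : IrrCharacter G} (hχ : χ ∈ X)
    (hne : χ ≠ trivIrr G) :
    (sg χ = 1 ∧ deg χ = (1 + n * p : ℕ)) ∨ (sg χ = -1 ∧ deg χ = (p - 1 : ℕ)) := by
  rcases B.degX h num hE hχ hne with h1 | h1 | h1
  · exact Or.inl h1
  · exact Or.inr h1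
  · exfalso
    have hp : p.Prime := Fact.out
    have h2 := deg_sq_le χ
    rw [h1.2, num.cardG, mul_one] at h2
    have h3 : ((p - 1) * (1 + n * p)) ^ 2 ≤ p * e * (1 + n * p) := by exact_mod_cast h2
    have h4 : (p - 1) * (p - 1) * (1 + n * p) * (1 + n * p) ≤ p * (p - 1) * (1 + n * p) := by
      refine le_trans (le_of_eq (by ring)) (h3.trans ?_)
      exact Nat.mul_le_mul_right _ (Nat.mul_le_mul_left _ B.e_le)
    have hp3 : 3 ≤ p := by
      have := num.epos
      have := B.e_le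
      omega
    have h5 : (p - 1) * (1 + n * p) ≤ p := by
      refine Nat.le_of_mul_le_mul_left (a := (p - 1) * (1 + n * p)) ?_
        (Nat.mul_pos (show 0 < p - 1 by omega) (show 0 < 1 + n * p by omega))
      calc (p - 1) * (1 + n * p) * ((p - 1) * (1 + n * p))
          = (p - 1) * (p - 1) * (1 + n * p) * (1 + n * p) := by ring
        _ ≤ p * (p - 1) * (1 + n * p) := h4
        _ = (p - 1) * (1 + n * p) * p := by ring
    have h6 : 2 * (1 + n * p) ≤ p := le_trans (Nat.mul_le_mul_right _ (by omega)) h5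
    have h7 : p ≤ n * p := Nat.le_mul_of_pos_left _ num.npos
    omega

/-- The single exceptional character does not occur. -/
theorem Blk.s_ne_one (h : Setup G p S) (num : Num S 1 e n) (B : Blk M S e s X Y sg ε)
    {χ : IrrCharacter G} (hdeg : charDegree (χ : G → ℂ) = p - 1) : s ≠ 1 := by
  intro hs
  have hp : p.Prime := Fact.out
  have hes := B.hes
  rw [hs, mul_one] at hes
  obtain ⟨z, hz, hz1⟩ := exists_ne_one h
  have hC : Subgroup.centralizer ({z} : Set G) = Subgroup.zpowers z := by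
    rw [centralizer_singleton h hz hz1, zpowers_eq h hz hz1]
    exact (Subgroup.eq_of_le_of_card_ge (le_centralizer h)
      (by rw [num.cardC, mul_one, show Nat.card (P) = p from h.cardP])).symm
  have hq : (Subgroup.zpowers z).relIndex (Subgroup.normalizer (Subgroup.zpowers z : Set G)) = e := by
    rw [zpowers_eq h hz hz1, ← num.he]
    congr 1
    exact Subgroup.eq_of_le_of_card_ge (le_centralizer h)
      (by rw [num.cardC, mul_one, show Nat.card (P) = p from h.cardP])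
  have he : Even e := by
    rcases hp.eq_two_or_odd with h2 | h2
    · have := num.epos; omega
    · exact Nat.even_iff.2 (by omega)
  obtain ⟨D, g, hg⟩ := CfsgLib.SelfCentPrime.exists_hom_eq_neg_one (orderOf_eq h hz hz1) hC
    (by rwa [hq]) (t := 1) odd_one (by rw [hq, one_mul]; omega) χ (by rw [hdeg]; omega)
  have hker : commutator G ≤ D.ker := by
    rw [commutator_def, Subgroup.commutator_le]
    intro a _ b _
    rw [MonoidHom.mem_ker, map_commutatorElement, commutatorElement_eq_one_iff_mul_comm]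
    exact mul_comm _ _
  have h1 : D g = 1 := MonoidHom.mem_ker.1 (hker (h.perfect ▸ Subgroup.mem_top g))
  rw [h1] at hg
  norm_num at hg

open Classical in
/-- The exceptional characters for `ε = 1` of degree `e` are impossible. -/
theorem Blk.no_small (hM : IsPModular p M) (h : Setup G p S) (num : Num S 1 e n)
    (hE : ¬ Eqn p n) (hn2 : 2 ≤ n) (B : Blk M S e s X Y sg ε) (hε : ε = 1) (hs2 : 2 ≤ s)
    {k : ℕ} (hk : n + 1 = k * s) (hdeg : ∀ θ ∈ Y, deg θ = (e : ℤ)) : False := by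
  letI := irrFintype (G := G)
  have hp : p.Prime := Fact.out
  have hp0 : (p : ℂ) ≠ 0 := Nat.cast_ne_zero.2 hp.ne_zero
  haveI : Fintype (P) := Fintype.ofFinite _
  -- fixed-point multiplicities on `P`
  choose m hm using fun χ : IrrCharacter G =>
    CfsgLib.Char.IsCharacter.exists_classInner_eq_natCast
      (CfsgLib.Char.IsCharacter.restrict (isCharacter_irr χ) (P)) CfsgLib.Char.isIrrCharacter_one
  have hm' : ∀ χ : IrrCharacter G, ∑ u : P, (χ : G → ℂ) u = (p : ℂ) * m χ := fun χ => by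
    rw [← hm, CfsgLib.Char.classInner_def, show Nat.card (P) = p from h.cardP, ← mul_assoc,
      mul_inv_cancel₀ hp0, one_mul]
    simp
  have hone : ∀ u : P, u ≠ 1 → (u : G) ≠ 1 := fun u hu he => hu (Subtype.ext he)
  have hordP : ∀ u : P, u ≠ 1 → p ∣ orderOf (u : G) := fun u hu =>
    (orderOf_eq h u.2 (hone u hu)).symm.dvd
  have hsumP : ∀ f : P → ℂ, ∑ u : P, f u = f 1 + ∑ u ∈ univ.erase (1 : P), f u := fun f =>
    (add_sum_erase _ _ (mem_univ _)).symm
  have hcardE : ((univ.erase (1 : P)).card : ℂ) = (p : ℂ) - 1 := by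
    rw [card_erase_of_mem (mem_univ _), card_univ, ← Nat.card_eq_fintype_card,
      show Nat.card (P) = p from h.cardP, Nat.cast_sub hp.one_lt.le, Nat.cast_one]
  have hmX : ∀ χ ∈ X, (p : ℤ) * m χ = deg χ + ((p : ℤ) - 1) * sg χ := by
    intro χ hχ
    have h1 : (p : ℂ) * m χ = (deg χ : ℂ) + ((p : ℂ) - 1) * (sg χ : ℂ) := by
      rw [← hm' χ, hsumP, OneMemClass.coe_one, apply_one_eq, sum_congr rfl fun u hu =>
        B.valP hχ u.2 (hone u (ne_of_mem_erase hu)), sum_const, nsmul_eq_mul, hcardE]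
    exact_mod_cast h1
  have hmY : ∀ θ ∈ Y, m θ = 0 := by
    have h1 : (p : ℂ) * ((∑ θ ∈ Y, m θ : ℕ) : ℂ) = 0 := by
      rw [Nat.cast_sum, mul_sum, ← sum_congr rfl fun θ _ => hm' θ, sum_comm, hsumP,
        sum_congr rfl fun θ (hθ : θ ∈ Y) => show (θ : G → ℂ) ((1 : P) : G) = (e : ℂ) by
          rw [OneMemClass.coe_one, apply_one_eq, hdeg θ hθ, Int.cast_natCast],
        sum_const, B.cardY, sum_congr rfl fun u hu => B.sumY hM h u.2 (hone u (ne_of_mem_erase hu)),
        sum_const, nsmul_eq_mul, nsmul_eq_mul, hcardE, hε]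
      have h2 : ((e * s + 1 : ℕ) : ℂ) = (p : ℂ) := by rw [B.hes]
      push_cast at h2 ⊢
      linear_combination h2
    have h2 : ∑ θ ∈ Y, m θ = 0 := Nat.cast_eq_zero.1 ((mul_eq_zero.1 h1).resolve_left hp0)
    exact fun θ hθ => (sum_eq_zero_iff.1 h2) θ hθ
  have hcol : ∀ u : P, u ≠ 1 →
      ∑ θ ∈ Y, (θ : G → ℂ) u * conj ((θ : G → ℂ) u) = (p : ℂ) - e := by
    intro u hu
    have h1 := column_orth (G := G) (u : G) (u : G)
    rw [if_pos (IsConj.refl _), centralizer_singleton h u.2 (hone u hu), num.cardC, mul_one,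
      ← sum_add_sum_compl (X ∪ Y), sum_union (disjoint_left.2 B.disj),
      sum_congr rfl fun χ (hχ : χ ∈ X) => show (χ : G → ℂ) u * conj ((χ : G → ℂ) u) = 1 by
        rw [B.valP hχ u.2 (hone u hu), map_intCast]
        rcases B.sign χ hχ with e' | e' <;> simp [e'],
      sum_const, B.cardX, nsmul_eq_mul, mul_one,
      sum_eq_zero (s := (X ∪ Y)ᶜ) fun χ hχ => by
        rw [mem_compl, mem_union, ← B.mem] at hχ
        rw [(outside hM h num hχ).2 _ (hordP u hu), zero_mul], add_zero] at h1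
    linear_combination h1
  -- the constituents of the norms
  let F : IrrCharacter G → G → ℂ := fun θ g => (θ : G → ℂ) g * conj ((θ : G → ℂ) g)
  have hF : ∀ θ, IsClassFunction G (F θ) := fun θ x y => by
    simp only [F, isClassFunction_irr θ x y]
  have hnat : ∀ θ χ : IrrCharacter G, ∃ a : ℕ, classInner (F θ) (χ : G → ℂ) = a := by
    intro θ χ
    obtain ⟨a, ha⟩ := CfsgLib.Char.IsCharacter.exists_classInner_eq_natCast' (isCharacter_irr θ)
      (CfsgLib.Char.IsCharacter.mul (isCharacter_irr θ) (isCharacter_irr χ))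
    refine ⟨a, ?_⟩
    rw [← ha]
    simp only [CfsgLib.Char.classInner_def, F, Pi.mul_apply, map_mul, mul_assoc]
  choose a ha using hnat
  have hexp : ∀ θ g, F θ g = ∑ χ, (a θ χ : ℂ) * (χ : G → ℂ) g := fun θ g => by
    rw [classFun_expand (hF θ) g]; simp only [ha]
  have htriv : ∀ θ, a θ (trivIrr G) = 1 := fun θ => by
    have h1 : classInner (F θ) (trivIrr G : G → ℂ) = classInner (θ : G → ℂ) (θ : G → ℂ) := by
      simp only [CfsgLib.Char.classInner_def, F, trivIrr_apply, map_one, mul_one]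
    rw [ha, CfsgLib.Char.IsIrrCharacter.classInner_self θ.2] at h1
    exact_mod_cast h1
  have hm1 : m (trivIrr G) = 1 := by
    have h1 := hm' (trivIrr G)
    simp only [trivIrr_apply, sum_const, card_univ, ← Nat.card_eq_fintype_card, nsmul_eq_mul,
      mul_one, show Nat.card (P) = p from h.cardP] at h1
    exact_mod_cast (mul_eq_left₀ hp0).1 h1.symm
  have hd : ∑ θ ∈ Y, ∑ χ, (a θ χ : ℤ) * deg χ = (s : ℤ) * (e : ℤ) ^ 2 := by
    have h1 : ∀ θ ∈ Y, ∑ χ, (a θ χ : ℤ) * deg χ = (e : ℤ) ^ 2 := by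
      intro θ hθ
      have h2 := hexp θ 1
      simp only [F, apply_one_eq, hdeg θ hθ, map_intCast, ← sq] at h2
      exact_mod_cast h2.symm
    rw [sum_congr rfl h1, sum_const, B.cardY, nsmul_eq_mul]
  have hmm : ∑ θ ∈ Y, ∑ χ, (a θ χ : ℤ) * (m χ : ℤ) = (e : ℤ) * s := by
    have h1 : (p : ℂ) * ((∑ θ ∈ Y, ∑ χ, (a θ χ : ℤ) * (m χ : ℤ) : ℤ) : ℂ) = (p : ℂ) * (e * s) := by
      have e1 : ∀ θ, ∑ u : P, F θ u = (p : ℂ) * ∑ χ, (a θ χ : ℂ) * (m χ : ℂ) := fun θ => by
        rw [show ∑ u : P, F θ u = ∑ u : P, ∑ χ, (a θ χ : ℂ) * (χ : G → ℂ) u from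
          sum_congr rfl fun u _ => hexp θ u, sum_comm, mul_sum]
        exact sum_congr rfl fun χ _ => by rw [← mul_sum, hm']; ring
      push_cast
      rw [mul_sum, ← sum_congr rfl fun θ _ => e1 θ, sum_comm, hsumP,
        sum_congr rfl fun θ (hθ : θ ∈ Y) => show F θ ((1 : P) : G) = (e : ℂ) ^ 2 by
          simp only [F, OneMemClass.coe_one, apply_one_eq, hdeg θ hθ, Int.cast_natCast,
            map_natCast, sq],
        sum_const, B.cardY, sum_congr rfl fun u hu => hcol u (ne_of_mem_erase hu), sum_const,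
        nsmul_eq_mul, nsmul_eq_mul, hcardE]
      have h2 : ((e * s + 1 : ℕ) : ℂ) = (p : ℂ) := by rw [B.hes]
      push_cast at h2
      linear_combination ((e : ℂ) - p) * h2
    exact_mod_cast mul_left_cancel₀ hp0 h1
  -- the ratio
  have hn1 : ((n : ℤ) + 1) = k * s := by exact_mod_cast hk
  have hes : (e : ℤ) * s + 1 = p := by exact_mod_cast B.hes
  have hk0 : 1 ≤ k := Nat.pos_of_ne_zero fun h0 => by rw [h0, zero_mul] at hk; omega
  have hratio : ∀ χ : IrrCharacter G, χ ≠ trivIrr G →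
      ((k : ℤ) * p - e) * (m χ : ℤ) ≤ (k : ℤ) * deg χ := by
    intro χ hne
    by_cases hX : χ ∈ X
    · rcases B.degX_one hM h num hE hX hne with h1 | h1
      · have h2 := hmX χ hX
        rw [h1.1, h1.2] at h2
        push_cast at h2
        have h3 : (m χ : ℤ) = (k : ℤ) * s :=
          mul_left_cancel₀ (Nat.cast_ne_zero.2 hp.ne_zero : (p : ℤ) ≠ 0)
            (by linear_combination h2 + (p : ℤ) * hn1)
        rw [h3, h1.2]
        push_cast
        exact le_of_eq (by linear_combination (-(k : ℤ) * p) * hn1 - (k : ℤ) * hes)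
      · have h2 := hmX χ hX
        rw [h1.1, h1.2] at h2
        push_cast [Nat.cast_sub hp.one_lt.le] at h2
        have h3 : (m χ : ℤ) = 0 :=
          mul_left_cancel₀ (Nat.cast_ne_zero.2 hp.ne_zero : (p : ℤ) ≠ 0) (by linarith)
        rw [h3, mul_zero]
        exact mul_nonneg (by positivity) (deg_pos χ).le
    by_cases hY : χ ∈ Y
    · rw [hmY χ hY, Nat.cast_zero, mul_zero]
      exact mul_nonneg (by positivity) (deg_pos χ).le
    · have hout := outside hM h num (φ := χ) (by rw [B.mem]; tauto)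
      have h1 : (p : ℤ) * m χ = deg χ := by
        have h2 : (p : ℂ) * m χ = (deg χ : ℂ) := by
          rw [← hm' χ, hsumP, OneMemClass.coe_one, apply_one_eq,
            sum_eq_zero fun u hu => hout.2 _ (hordP u (ne_of_mem_erase hu)), add_zero]
        exact_mod_cast h2
      rw [← h1]
      nlinarith [mul_nonneg (Nat.cast_nonneg e : (0 : ℤ) ≤ e) (Nat.cast_nonneg (m χ) : (0 : ℤ) ≤ m χ)]
  have hineq : ((k : ℤ) * p - e) * ((e : ℤ) * s - s) ≤ (k : ℤ) * ((s : ℤ) * (e : ℤ) ^ 2 - s) := by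
    have hm_sum : (e : ℤ) * s - s = ∑ θ ∈ Y, ∑ χ ∈ univ.erase (trivIrr G), (a θ χ : ℤ) * m χ := by
      rw [← hmm, ← B.cardY, ← nsmul_one (A := ℤ) Y.card, ← sum_const, ← sum_sub_distrib]
      refine sum_congr rfl fun θ _ => ?_
      rw [← add_sum_erase _ _ (mem_univ (trivIrr G)), htriv, hm1]; simp
    have hd_sum : (s : ℤ) * (e : ℤ) ^ 2 - s =
        ∑ θ ∈ Y, ∑ χ ∈ univ.erase (trivIrr G), (a θ χ : ℤ) * deg χ := by
      rw [← hd, ← B.cardY, ← nsmul_one (A := ℤ) Y.card, ← sum_const, ← sum_sub_distrib]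
      refine sum_congr rfl fun θ _ => ?_
      rw [← add_sum_erase _ _ (mem_univ (trivIrr G)), htriv, deg_trivIrr]; simp
    rw [hm_sum, hd_sum, mul_sum, mul_sum]
    refine sum_le_sum fun θ _ => ?_
    rw [mul_sum, mul_sum]
    refine sum_le_sum fun χ hχ => ?_
    have h1 := mul_le_mul_of_nonneg_left (hratio χ (ne_of_mem_erase hχ))
      (Nat.cast_nonneg (a θ χ) : (0 : ℤ) ≤ a θ χ)
    linarith
  have he2 : (2 : ℤ) ≤ e := by exact_mod_cast num.epos
  have hpos : (0 : ℤ) < ((e : ℤ) - 1) * s := mul_pos (by omega) (by exact_mod_cast B.spos)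
  have h4 : (k : ℤ) * p - e ≤ (k : ℤ) * ((e : ℤ) + 1) :=
    le_of_mul_le_mul_right (by linarith) hpos
  rw [← hes] at h4
  have h5 : (e : ℤ) * ((k : ℤ) * ((s : ℤ) - 1) - 1) ≤ 0 := by linarith
  have h6 : (k : ℤ) * ((s : ℤ) - 1) - 1 ≤ 0 := by
    by_contra hh
    nlinarith [mul_pos (show (0 : ℤ) < e by omega) (not_le.1 hh)]
  have h7 : k * (s - 1) ≤ 1 := by
    have : ((k * (s - 1) : ℕ) : ℤ) ≤ 1 := by
      rw [Nat.cast_mul, Nat.cast_sub (by omega : 1 ≤ s)]; push_cast; linarith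
    exact_mod_cast this
  rcases Nat.lt_or_ge k 2 with hk2 | hk2
  · have : k = 1 := by omega
    subst this
    omega
  · nlinarith [Nat.mul_le_mul hk2 (show 1 ≤ s - 1 by omega)]

/-- **The degrees.** -/
theorem exists_degrees (hM : IsPModular p M) (h : Setup G p S) (num : Num S c e n)
    (hE : ¬ Eqn p n) (hn2 : 2 ≤ n) (B : Blk M S e s X Y sg ε) :
    c = 1 ∧ 2 ≤ s ∧ ∃ k A : ℕ, 0 < k ∧ n + 1 = k * s ∧ e = 1 + k + k * A * s ∧ ε = -1 ∧
      (∀ θ ∈ Y, deg θ = (k : ℤ) * p - e) ∧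
      ∃ XA ⊆ X.erase (trivIrr G), XA.card = A ∧
        (∀ χ ∈ XA, sg χ = 1 ∧ deg χ = (s : ℤ) * ((k : ℤ) * p - e)) ∧
        ∀ χ ∈ X.erase (trivIrr G), χ ∉ XA → sg χ = -1 ∧ deg χ = (p : ℤ) - 1 := by
  classical
  have hp : p.Prime := Fact.out
  have hp2 := hp.two_le
  obtain ⟨χ₁, hχ₁, hsg1, hdeg1⟩ := B.exists_minus hM h num hE
  have hc : c = 1 := B.c_eq_one hM h num hχ₁ hdeg1 hsg1
  subst hc
  have hs1 := B.s_ne_one h num hdeg1
  have hs0 := B.spos
  have hs2 : 2 ≤ s := by omega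
  have hes := B.hes
  have hp1 : p - 1 = e * s := by omega
  -- `s ∣ n + 1`
  have hsn : s ∣ n + 1 := by
    have h1 := B.dvdX h num hχ₁
    rw [hdeg1, hp1] at h1
    have h2 : s ∣ 1 + n * p := Nat.dvd_of_mul_dvd_mul_left (by have := num.epos; omega) h1
    rw [← hes, show 1 + n * (e * s + 1) = n + 1 + s * (n * e) by ring] at h2
    exact (Nat.dvd_add_left (dvd_mul_right s _)).1 h2
  obtain ⟨k, hk⟩ := hsn
  rw [mul_comm] at hk
  refine ⟨rfl, hs2, k, ?_⟩
  have hk0 : 0 < k := Nat.pos_of_ne_zero fun h0 => by rw [h0, zero_mul] at hk; omega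
  set XA := (X.erase (trivIrr G)).filter fun χ => sg χ = 1 with hXA
  have hA : ∀ χ ∈ XA, sg χ = 1 ∧ deg χ = ((1 + n * p : ℕ) : ℤ) := fun χ hχ => by
    rw [hXA, mem_filter] at hχ
    rcases B.degX_one hM h num hE (mem_of_mem_erase hχ.1) (ne_of_mem_erase hχ.1) with h1 | h1
    · exact h1
    · rw [h1.1] at hχ; norm_num at hχ
  have hB : ∀ χ ∈ X.erase (trivIrr G), χ ∉ XA → sg χ = -1 ∧ deg χ = (p : ℤ) - 1 := fun χ hχ hn' => by
    rcases B.degX_one hM h num hE (mem_of_mem_erase hχ) (ne_of_mem_erase hχ) with h1 | h1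
    · exact absurd (mem_filter.2 ⟨hχ, h1.1⟩) hn'
    · exact ⟨h1.1, by rw [h1.2, Nat.cast_sub hp.one_lt.le, Nat.cast_one]⟩
  obtain ⟨θ, hθ⟩ := card_pos.1 (B.cardY ▸ B.spos : 0 < Y.card)
  set A := XA.card
  have hsub : XA ⊆ X.erase (trivIrr G) := filter_subset _ _
  have hAe : A + 1 ≤ e := by
    have h1 := card_le_card hsub
    rw [card_erase_of_mem B.triv, B.cardX] at h1
    have := num.epos
    omega
  have hx : ε * deg θ = 1 + (A : ℤ) * (1 + n * p : ℕ) - ((e : ℤ) - 1 - A) * ((p : ℤ) - 1) := by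
    rw [B.degY hθ, ← add_sum_erase X _ B.triv, B.sgTriv, deg_trivIrr, ← sum_sdiff hsub,
      sum_congr rfl fun χ (hχ : χ ∈ X.erase (trivIrr G) \ XA) => show sg χ * deg χ = -((p : ℤ) - 1) by
        rw [mem_sdiff] at hχ
        rw [(hB χ hχ.1 hχ.2).1, (hB χ hχ.1 hχ.2).2]; ring,
      sum_congr rfl fun χ hχ => show sg χ * deg χ = ((1 + n * p : ℕ) : ℤ) by
        rw [(hA χ hχ).1, (hA χ hχ).2, one_mul],
      sum_const, sum_const, nsmul_eq_mul, nsmul_eq_mul, card_sdiff_of_subset hsub,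
      card_erase_of_mem B.triv, B.cardX, Nat.cast_sub (by omega), Nat.cast_sub (by omega)]
    push_cast
    ring
  set x := charDegree (θ : G → ℂ) with hxdef
  have hxdeg : ∀ θ' ∈ Y, deg θ' = (x : ℤ) := fun θ' hθ' => B.deg_agree hθ' hθ
  have hxpos : 0 < x := (irr_one θ).2
  have hxs : x * s ∣ (p - 1) * (1 + n * p) := by
    rw [hp1, show e * s * (1 + n * p) = e * (1 + n * p) * s by ring]
    exact Nat.mul_dvd_mul_right (B.dvdY hM h num hθ) s
  have hes' : (e : ℤ) * s + 1 = p := by exact_mod_cast hes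
  have hn1 : (n : ℤ) + 1 = k * s := by exact_mod_cast hk
  have hd1 : ((1 + n * p : ℕ) : ℤ) = (s : ℤ) * ((k : ℤ) * p - e) := by
    push_cast; linear_combination (p : ℤ) * hn1 + hes'
  have hp0 : (p : ℤ) ≠ 0 := Nat.cast_ne_zero.2 hp.ne_zero
  rcases B.signY with hε | hε
  · exfalso
    have hxe : x = e := by
      have hne : x * s ≠ (p - 1) * (1 + n * p) := fun h1 => by
        rw [hp1, show e * s * (1 + n * p) = e * (1 + n * p) * s by ring] at h1
        have h2 := Nat.eq_of_mul_eq_mul_right hs0 h1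
        have h3 := deg_sq_le θ
        rw [hxdeg θ hθ, num.cardG, mul_one] at h3
        have h4 : x ^ 2 ≤ p * e * (1 + n * p) := by exact_mod_cast h3
        rw [h2, show (e * (1 + n * p)) ^ 2 = e * (1 + n * p) * (e * (1 + n * p)) by ring,
          show p * e * (1 + n * p) = p * (e * (1 + n * p)) by ring] at h4
        have h5 := Nat.le_of_mul_le_mul_right h4 (by rw [← h2]; exact hxpos)
        have h6 : 2 * (1 + n * p) ≤ p := (Nat.mul_le_mul_right _ num.epos).trans h5
        have h7 : p ≤ n * p := Nat.le_mul_of_pos_left _ num.npos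
        omega
      have hcong : ((x * s : ℕ) : ℤ) ≡ -1 [ZMOD (p : ℤ)] := by
        have h1 := (B.congY θ hθ).mul_right (s : ℤ)
        rw [hxdeg θ hθ, hε, one_mul] at h1
        push_cast
        exact h1.trans (Int.modEq_iff_dvd.2 ⟨-1, by linear_combination -hes'⟩)
      have h1 := minus hp hE hxs hcong hne
      rw [hp1] at h1
      exact Nat.eq_of_mul_eq_mul_right hs0 h1
    exact B.no_small hM h num hE hn2 hε hs2 hk fun θ' hθ' => by rw [hxdeg θ' hθ', hxe]
  · have hcong : ((x * s : ℕ) : ℤ) ≡ 1 [ZMOD (p : ℤ)] := by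
      have h1 := (B.congY θ hθ).mul_right (s : ℤ)
      rw [hxdeg θ hθ, hε] at h1
      push_cast
      exact h1.trans (Int.modEq_iff_dvd.2 ⟨1, by linear_combination hes'⟩)
    have hne : x * s ≠ 1 := fun h1 => by
      obtain ⟨h2, -⟩ := mul_eq_one.1 h1
      have h3 := eq_trivIrr h (θ := θ) (by rw [hxdeg θ hθ, h2]; rfl)
      exact B.disj _ B.triv (h3 ▸ hθ)
    have h1 := plus hp hE hxs hcong hne
    have hxval : (x : ℤ) = (k : ℤ) * p - e := by
      have h2 : ((x : ℤ)) * s = (s : ℤ) * ((k : ℤ) * p - e) := by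
        rw [← hd1, ← h1]; push_cast; ring
      exact mul_right_cancel₀ (Nat.cast_ne_zero.2 hs0.ne' : (s : ℤ) ≠ 0) (h2.trans (mul_comm _ _))
    rw [hxdeg θ hθ, hε, hxval, hd1] at hx
    have he : (e : ℤ) = 1 + k + k * A * s := by
      refine mul_left_cancel₀ hp0 ?_
      linear_combination hx + (-(A : ℤ) - 1 + 1) * hes'
    exact ⟨A, hk0, hk, by exact_mod_cast he, hε, fun θ' hθ' => by rw [hxdeg θ' hθ', hxval],
      XA, hsub, rfl, fun χ hχ => ⟨(hA χ hχ).1, by rw [(hA χ hχ).2, hd1]⟩, hB⟩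

end CfsgLib.BrauerPrime
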