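import Cfsg.Agent.BrauerPrime.Degrees
import Cfsg.Agent.BrauerPrime.Complement

/-!
# The columns at the elements of the complement
-/

set_option autoImplicit false
set_option linter.style.haveILetI false
set_option linter.unusedSectionVars false

namespace CfsgLib.BrauerPrime

open Cfsg Finset CfsgLib.Block CfsgLib.Block.Chr CfsgLib.BrauerPairs
open CfsgLib.Cyclic (deg)
open scoped ComplexConjugate

universe u

variable {G : Type u} [Group G] [Fintype G] {p : ℕ} [Fact p.Prime] {S : Sylow p G}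
  {M : Ideal AlgInt} [M.IsPrime] {e n s k A : ℕ} {X Y XA : Finset (IrrCharacter G)}
  {sg : IrrCharacter G → ℤ}

local notation "P" => (S : Subgroup G)

/-- The shape of the principal block. -/
structure Shape (M : Ideal AlgInt) (S : Sylow p G) (e n s k A : ℕ)
    (X Y XA : Finset (IrrCharacter G)) (sg : IrrCharacter G → ℤ) : Prop where
  modular : IsPModular p M
  setup : Setup G p S
  num : Num S 1 e n
  blk : Blk M S e s X Y sg (-1)
  n2 : 2 ≤ n
  s2 : 2 ≤ s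
  kpos : 0 < k
  hn : n + 1 = k * s
  he : e = 1 + k + k * A * s
  degY : ∀ θ ∈ Y, deg θ = (k : ℤ) * p - e
  sub : XA ⊆ X.erase (trivIrr G)
  cardA : XA.card = A
  hA : ∀ χ ∈ XA, sg χ = 1 ∧ deg χ = (s : ℤ) * ((k : ℤ) * p - e)
  hB : ∀ χ ∈ X.erase (trivIrr G), χ ∉ XA → sg χ = -1 ∧ deg χ = (p : ℤ) - 1

theorem exists_shape {M : Ideal AlgInt} [M.IsPrime] (hM : IsPModular p M) (h : Setup G p S)
    {c : ℕ} (num : Num S c e n) (hE : ¬ Eqn p n) (hn2 : 2 ≤ n) :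
    ∃ s k A X Y XA sg, Shape M S e n s k A X Y XA sg := by
  obtain ⟨s, X, Y, sg, ε, B⟩ := exists_blk hM h num
  obtain ⟨rfl, hs2, k, A, hk, hn, he, rfl, hY, XA, h1, h2, h3, h4⟩ :=
    exists_degrees hM h num hE hn2 B
  exact ⟨s, k, A, X, Y, XA, sg, hM, h, num, B, hn2, hs2, hk, hn, he, hY, h1, h2, h3, h4⟩

/-- The fixed-point dimension attached to a member outside the principal block. -/
noncomputable def mult' (p : ℕ) (φ : IrrCharacter G) : ℕ := charDegree (φ : G → ℂ) / p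

theorem Shape.mult_spec (H : Shape M S e n s k A X Y XA sg) {φ : IrrCharacter G}
    (hφ : φ ∉ principalBlock M G) : (deg φ : ℤ) = (p : ℤ) * mult' p φ := by
  obtain ⟨d, hd⟩ := (outside H.modular H.setup H.num hφ).1
  show (charDegree (φ : G → ℂ) : ℤ) = _
  rw [mult', hd, Nat.mul_div_cancel_left _ (Fact.out : p.Prime).pos]
  push_cast; ring

theorem Shape.int_eqs (H : Shape M S e n s k A X Y XA sg) :
    (e : ℤ) * s + 1 = p ∧ (n : ℤ) + 1 = k * s ∧ (e : ℤ) = 1 + k + k * A * s :=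
  ⟨by exact_mod_cast H.blk.hes, by exact_mod_cast H.hn, by exact_mod_cast H.he⟩

/-- Sums over all the characters, split along the shape of the principal block. -/
theorem Shape.split [Fintype (IrrCharacter G)]
    (H : Shape M S e n s k A X Y XA sg) (f : IrrCharacter G → ℂ) :
    ∑ χ, f χ = f (trivIrr G) + ∑ χ ∈ X.erase (trivIrr G) \ XA, f χ + ∑ χ ∈ XA, f χ +
      ∑ χ ∈ Y, f χ + ∑ χ ∈ (X ∪ Y)ᶜ, f χ := by
  rw [← sum_add_sum_compl (X ∪ Y), sum_union (disjoint_left.2 H.blk.disj),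
    ← add_sum_erase X _ H.blk.triv, ← sum_sdiff H.sub]
  ring

theorem Shape.mem_compl_iff [Fintype (IrrCharacter G)]
    (H : Shape M S e n s k A X Y XA sg) {φ : IrrCharacter G} :
    φ ∈ (X ∪ Y)ᶜ ↔ φ ∉ principalBlock M G := by
  rw [mem_compl, mem_union, H.blk.mem]

theorem Shape.cardB (H : Shape M S e n s k A X Y XA sg) :
    (X.erase (trivIrr G) \ XA).card + A + 1 = e := by
  have h1 := card_sdiff_add_card_eq_card H.sub
  rw [H.cardA, card_erase_of_mem H.blk.triv, H.blk.cardX] at h1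
  have := H.num.epos
  omega

theorem Shape.sum_mult_sq [Fintype (IrrCharacter G)]
    (H : Shape M S e n s k A X Y XA sg) :
    ∑ φ ∈ (X ∪ Y)ᶜ, ((mult' p φ : ℂ)) ^ 2 = (n : ℂ) := by
  classical
  obtain ⟨h1, h2, h3⟩ := H.int_eqs
  have h := column_orth (G := G) 1 1
  rw [if_pos (IsConj.refl _), show Subgroup.centralizer ({(1 : G)} : Set G) = ⊤ by
    ext g; simp [Subgroup.mem_centralizer_singleton_iff], Subgroup.card_top] at h
  simp only [apply_one_eq, map_intCast] at h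
  rw [H.split, deg_trivIrr,
    sum_congr rfl fun χ hχ => show (deg χ : ℂ) * (deg χ : ℂ) = ((p : ℂ) - 1) ^ 2 by
      rw [(H.hB χ (mem_sdiff.1 hχ).1 (mem_sdiff.1 hχ).2).2]; push_cast; ring,
    sum_congr rfl fun χ (hχ : χ ∈ XA) => show (deg χ : ℂ) * (deg χ : ℂ) =
      ((s : ℂ) * ((k : ℂ) * p - e)) ^ 2 by rw [(H.hA χ hχ).2]; push_cast; ring,
    sum_congr rfl fun χ (hχ : χ ∈ Y) => show (deg χ : ℂ) * (deg χ : ℂ) = ((k : ℂ) * p - e) ^ 2 by
      rw [H.degY χ hχ]; push_cast; ring,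
    sum_congr rfl fun χ hχ => show (deg χ : ℂ) * (deg χ : ℂ) = (p : ℂ) ^ 2 * (mult' p χ : ℂ) ^ 2 by
      rw [H.mult_spec (H.mem_compl_iff.1 hχ)]; push_cast; ring,
    sum_const, sum_const, sum_const, ← mul_sum, H.cardA, H.blk.cardY, H.num.cardG] at h
  set Q := ∑ φ ∈ (X ∪ Y)ᶜ, (mult' p φ : ℂ) ^ 2
  have hB : (((X.erase (trivIrr G) \ XA).card : ℕ) : ℂ) = (e : ℂ) - 1 - A := by
    have := H.cardB
    have h' : (((X.erase (trivIrr G) \ XA).card + A + 1 : ℕ) : ℂ) = (e : ℂ) := by rw [this]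
    push_cast at h'
    linear_combination h'
  simp only [nsmul_eq_mul, hB] at h
  push_cast at h
  have h1' : (e : ℂ) * s + 1 = (p : ℂ) := by exact_mod_cast h1
  have h2' : (n : ℂ) + 1 = (k : ℂ) * s := by exact_mod_cast h2
  have h3' : (e : ℂ) = 1 + k + k * A * s := by exact_mod_cast h3
  have hp0 : (p : ℂ) ^ 2 ≠ 0 := pow_ne_zero _ (Nat.cast_ne_zero.2 (Fact.out : p.Prime).ne_zero)
  refine mul_left_cancel₀ hp0 ?_
  have hn' : (n : ℂ) = (k : ℂ) * s - 1 := by linear_combination h2'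
  rw [hn', ← h1', h3'] at h ⊢
  linear_combination h

/-- The values on the complement. -/
structure Vals (M : Ideal AlgInt) (E : Subgroup G) (e n s k p : ℕ) [Fintype (IrrCharacter G)]
    (X Y XA : Finset (IrrCharacter G)) [Fintype E] [DecidableEq E] :
    Prop where
  minus : ∀ χ ∈ X.erase (trivIrr G) \ XA, ∀ y ∈ E, y ≠ 1 → (χ : G → ℂ) y = 0
  plusBound : ∀ χ ∈ XA, ∀ y ∈ E, y ≠ 1 → ‖(χ : G → ℂ) y‖ ≤ ((k * s : ℕ) : ℝ)
  plusSum : ∀ χ ∈ XA, ∑ y ∈ univ.erase (1 : E), (χ : G → ℂ) y = -((k : ℂ) * s)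
  excBound : ∀ θ ∈ Y, ∀ y ∈ E, y ≠ 1 → (s : ℝ) * ‖(θ : G → ℂ) y‖ ≤ ((k * s : ℕ) : ℝ)
  excSum : ∀ θ ∈ Y, ∑ y ∈ univ.erase (1 : E), (θ : G → ℂ) y = -(k : ℂ)
  rel : ∀ θ ∈ Y, ∀ y ∈ E, y ≠ 1 → -(θ : G → ℂ) y = 1 + ∑ χ ∈ XA, (χ : G → ℂ) y
  out : ∀ φ ∈ (X ∪ Y)ᶜ, ∀ y ∈ E, y ≠ 1 → (φ : G → ℂ) y = (mult' p φ : ℂ)

theorem Shape.vals [Fintype (IrrCharacter G)]
    (H : Shape M S e n s k A X Y XA sg) {E : Subgroup G} (hE : Comp S E e) [Fintype E]
    [DecidableEq E] : Vals M E e n s k p X Y XA := by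
  classical
  have hp : p.Prime := Fact.out
  obtain ⟨h1, h2, h3⟩ := H.int_eqs
  have hp0 : (p : ℂ) ≠ 0 := Nat.cast_ne_zero.2 hp.ne_zero
  haveI : Fintype (P) := Fintype.ofFinite _
  choose m a hm ha hbd using exists_mult H.setup H.num hE
  have hone : ∀ u : P, u ≠ 1 → (u : G) ≠ 1 := fun u hu he' => hu (Subtype.ext he')
  have hsumP : ∀ f : P → ℂ, ∑ u : P, f u = f 1 + ∑ u ∈ univ.erase (1 : P), f u := fun f =>
    (add_sum_erase _ _ (mem_univ _)).symm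
  have hcardP : ((univ.erase (1 : P)).card : ℂ) = (p : ℂ) - 1 := by
    rw [card_erase_of_mem (mem_univ _), card_univ, ← Nat.card_eq_fintype_card,
      show Nat.card (P) = p from H.setup.cardP, Nat.cast_sub hp.one_lt.le, Nat.cast_one]
  have hcardE : ((univ.erase (1 : E)).card : ℂ) = (e : ℂ) - 1 := by
    rw [card_erase_of_mem (mem_univ _), card_univ, ← Nat.card_eq_fintype_card, hE.card,
      Nat.cast_sub (by have := H.num.epos; omega), Nat.cast_one]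
  have hmX : ∀ χ ∈ X, (p : ℤ) * m χ = deg χ + ((p : ℤ) - 1) * sg χ := by
    intro χ hχ
    have h' : (p : ℂ) * m χ = (deg χ : ℂ) + ((p : ℂ) - 1) * (sg χ : ℂ) := by
      rw [← hm χ, hsumP, OneMemClass.coe_one, apply_one_eq, sum_congr rfl fun u hu =>
        H.blk.valP hχ u.2 (hone u (ne_of_mem_erase hu)), sum_const, nsmul_eq_mul, hcardP]
    exact_mod_cast h'
  have hmA : ∀ χ ∈ XA, m χ = k * s := by
    intro χ hχ
    have h' := hmX χ (mem_of_mem_erase (H.sub hχ))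
    rw [(H.hA χ hχ).1, (H.hA χ hχ).2] at h'
    have : (m χ : ℤ) = (k : ℤ) * s := mul_left_cancel₀ (Nat.cast_ne_zero.2 hp.ne_zero : (p : ℤ) ≠ 0)
      (by linear_combination h' - h1)
    exact_mod_cast this
  have hmB : ∀ χ ∈ X.erase (trivIrr G) \ XA, m χ = 0 := by
    intro χ hχ
    rw [mem_sdiff] at hχ
    have h' := hmX χ (mem_of_mem_erase hχ.1)
    rw [(H.hB χ hχ.1 hχ.2).1, (H.hB χ hχ.1 hχ.2).2] at h'
    have : (m χ : ℤ) = 0 := mul_left_cancel₀ (Nat.cast_ne_zero.2 hp.ne_zero : (p : ℤ) ≠ 0)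
      (by linarith)
    exact_mod_cast this
  have hmY : ∑ θ ∈ Y, m θ = k * s := by
    have h' : (p : ℂ) * ((∑ θ ∈ Y, m θ : ℕ) : ℂ) = (p : ℂ) * ((k * s : ℕ) : ℂ) := by
      rw [Nat.cast_sum, mul_sum, ← sum_congr rfl fun θ _ => hm θ, sum_comm, hsumP,
        sum_congr rfl fun θ (hθ : θ ∈ Y) => show (θ : G → ℂ) ((1 : P) : G) = (k : ℂ) * p - e by
          rw [OneMemClass.coe_one, apply_one_eq, H.degY θ hθ]; push_cast; ring,
        sum_const, H.blk.cardY, sum_congr rfl fun u hu =>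
          H.blk.sumY H.modular H.setup u.2 (hone u (ne_of_mem_erase hu)),
        sum_const, nsmul_eq_mul, nsmul_eq_mul, hcardP]
      have h1' : (e : ℂ) * s + 1 = (p : ℂ) := by exact_mod_cast h1
      push_cast
      linear_combination -h1'
    exact_mod_cast mul_left_cancel₀ hp0 h'
  have hminus : ∀ χ ∈ X.erase (trivIrr G) \ XA, ∀ y ∈ E, y ≠ 1 → (χ : G → ℂ) y = 0 :=
    fun χ hχ y hy hy1 => by
      have h' := hbd χ y hy hy1
      rw [hmB χ hχ, Nat.cast_zero] at h'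
      exact norm_le_zero_iff.1 h'
  have hreg : ∀ y ∈ E, ¬ p ∣ orderOf y := hE.not_dvd
  have hrel : ∀ θ ∈ Y, ∀ y ∈ E, y ≠ 1 → -(θ : G → ℂ) y = 1 + ∑ χ ∈ XA, (χ : G → ℂ) y := by
    intro θ hθ y hy hy1
    have h' := H.blk.rel θ hθ y (hreg y hy)
    rw [← add_sum_erase X _ H.blk.triv, H.blk.sgTriv, trivIrr_apply, ← sum_sdiff H.sub,
      sum_eq_zero fun χ hχ => by rw [hminus χ hχ y hy hy1, mul_zero],
      sum_congr rfl fun χ (hχ : χ ∈ XA) => show (sg χ : ℂ) * (χ : G → ℂ) y = (χ : G → ℂ) y by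
        rw [(H.hA χ hχ).1, Int.cast_one, one_mul]] at h'
    push_cast at h'
    linear_combination h'
  -- no fixed points of the complement
  have hY0 : ∀ θ ∈ Y, ∀ θ' ∈ Y, ∀ y ∈ E, (θ : G → ℂ) y = (θ' : G → ℂ) y :=
    fun θ hθ θ' hθ' y hy => H.blk.agree θ hθ θ' hθ' y (hreg y hy)
  obtain ⟨θ₀, hθ₀⟩ := card_pos.1 (H.blk.cardY ▸ H.blk.spos : 0 < Y.card)
  set Z := ∑ y ∈ univ.erase (1 : E), (θ₀ : G → ℂ) y with hZ
  have hYs : ∀ θ ∈ Y, ∑ y ∈ univ.erase (1 : E), (θ : G → ℂ) y = Z :=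
    fun θ hθ => sum_congr rfl fun y _ => hY0 θ hθ θ₀ hθ₀ y y.2
  have hsumθ : ((k : ℂ) * s) + (s : ℂ) * Z = (e : ℂ) * ((∑ θ ∈ Y, a θ : ℕ) : ℂ) := by
    rw [Nat.cast_sum, mul_sum (a := (e : ℂ)), ← sum_congr rfl fun θ _ => ha θ, sum_add_distrib,
      sum_congr rfl hYs, sum_const, H.blk.cardY, nsmul_eq_mul, ← Nat.cast_sum, hmY]
    push_cast; ring
  have hrelsum : -Z = ((e : ℂ) - 1) + (e : ℂ) * ((∑ χ ∈ XA, a χ : ℕ) : ℂ) - (A : ℂ) * ((k : ℂ) * s) := by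
    rw [hZ, ← sum_neg_distrib, sum_congr rfl fun y (hy : y ∈ univ.erase (1 : E)) => hrel θ₀ hθ₀ y y.2 (fun h' =>
      ne_of_mem_erase hy (Subtype.ext h')), sum_add_distrib, sum_const, nsmul_eq_mul, mul_one,
      hcardE, sum_comm, Nat.cast_sum, mul_sum, add_sub_assoc, ← H.cardA, ← nsmul_eq_mul XA.card,
      ← sum_const, ← sum_sub_distrib]
    congr 1
    refine sum_congr rfl fun χ hχ => ?_
    rw [← ha χ, hmA χ hχ]
    push_cast; ring
  have hzero : (∑ θ ∈ Y, a θ) + s * (∑ χ ∈ XA, a χ) = 0 := by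
    have h3' : (e : ℂ) = 1 + k + k * A * s := by exact_mod_cast h3
    have he0 : (e : ℂ) ≠ 0 := Nat.cast_ne_zero.2 (by have := H.num.epos; omega)
    have h' : (e : ℂ) * (((∑ θ ∈ Y, a θ) + s * (∑ χ ∈ XA, a χ) : ℕ) : ℂ) = (e : ℂ) * ((0 : ℕ) : ℂ) := by
      rw [Nat.cast_add, Nat.cast_mul, Nat.cast_zero, mul_zero, mul_add]
      linear_combination -hsumθ - (s : ℂ) * hrelsum + (-(s : ℂ)) * h3'
    exact_mod_cast mul_left_cancel₀ he0 h'
  have haY : ∀ θ ∈ Y, a θ = 0 := (sum_eq_zero_iff).1 (Nat.add_eq_zero_iff.1 hzero).1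
  have haA : ∀ χ ∈ XA, a χ = 0 := by
    refine sum_eq_zero_iff.1 ?_
    rcases mul_eq_zero.1 (Nat.add_eq_zero_iff.1 hzero).2 with h' | h'
    · have := H.s2; omega
    · exact h'
  have hZval : Z = -(k : ℂ) := by
    have hs0 : (s : ℂ) ≠ 0 := Nat.cast_ne_zero.2 (by have := H.s2; omega)
    rw [(sum_eq_zero_iff).2 haY, Nat.cast_zero, mul_zero] at hsumθ
    refine mul_left_cancel₀ hs0 ?_
    linear_combination hsumθ
  refine ⟨hminus, fun χ hχ y hy hy1 => hmA χ hχ ▸ hbd χ y hy hy1, fun χ hχ => ?_,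
    fun θ hθ y hy hy1 => ?_, fun θ hθ => (hYs θ hθ).trans hZval, hrel, ?_⟩
  · have h' := ha χ
    rw [haA χ hχ, Nat.cast_zero, mul_zero, hmA χ hχ] at h'
    push_cast at h'
    linear_combination h'
  · have h' : ∑ θ' ∈ Y, ‖(θ' : G → ℂ) y‖ ≤ ∑ θ' ∈ Y, (m θ' : ℝ) :=
      sum_le_sum fun θ' _ => hbd θ' y hy hy1
    rw [sum_congr rfl fun θ' hθ' => by rw [hY0 θ' hθ' θ hθ y hy], sum_const, H.blk.cardY,
      nsmul_eq_mul, ← Nat.cast_sum, hmY] at h'
    exact h'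
  · intro φ hφ y hy hy1
    -- outside the principal block
    have hmo : ∀ φ ∈ (X ∪ Y)ᶜ, m φ = mult' p φ := by
      intro φ hφ
      have hout := outside H.modular H.setup H.num (H.mem_compl_iff.1 hφ)
      have h' : (p : ℂ) * m φ = (p : ℂ) * mult' p φ := by
        rw [← hm φ, hsumP, OneMemClass.coe_one, apply_one_eq, sum_eq_zero fun u hu =>
            hout.2 _ (orderOf_eq H.setup u.2 (hone u (ne_of_mem_erase hu))).symm.dvd,
          add_zero, H.mult_spec (H.mem_compl_iff.1 hφ)]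
        push_cast; ring
      exact_mod_cast mul_left_cancel₀ hp0 h'
    have h1' : (e : ℂ) * s + 1 = (p : ℂ) := by exact_mod_cast h1
    have h2' : (n : ℂ) + 1 = (k : ℂ) * s := by exact_mod_cast h2
    have hsum : ∑ φ ∈ (X ∪ Y)ᶜ, (mult' p φ : ℂ) * (φ : G → ℂ) y = (n : ℂ) := by
      have h' := column_orth (G := G) y 1
      rw [if_neg fun hc => hy1 (isConj_one_left.1 hc)] at h'
      simp only [apply_one_eq, map_intCast] at h'
      rw [H.split, trivIrr_apply, deg_trivIrr, Int.cast_one, mul_one,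
        sum_eq_zero fun χ hχ => by rw [hminus χ hχ y hy hy1, zero_mul], add_zero,
        sum_congr rfl fun χ (hχ : χ ∈ XA) => show (χ : G → ℂ) y * (deg χ : ℂ) =
          ((s : ℂ) * ((k : ℂ) * p - e)) * (χ : G → ℂ) y by rw [(H.hA χ hχ).2]; push_cast; ring,
        sum_congr rfl fun θ (hθ : θ ∈ Y) => show (θ : G → ℂ) y * (deg θ : ℂ) =
          ((k : ℂ) * p - e) * (θ₀ : G → ℂ) y by
            rw [H.degY θ hθ, hY0 θ hθ θ₀ hθ₀ y hy]; push_cast; ring,
        sum_congr rfl fun φ (hφ : φ ∈ (X ∪ Y)ᶜ) => show (φ : G → ℂ) y * (deg φ : ℂ) =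
          (p : ℂ) * ((mult' p φ : ℂ) * (φ : G → ℂ) y) by
            rw [H.mult_spec (H.mem_compl_iff.1 hφ)]; push_cast; ring,
        sum_const, H.blk.cardY, ← mul_sum, ← mul_sum, nsmul_eq_mul] at h'
      have hr := hrel θ₀ hθ₀ y hy hy1
      refine mul_left_cancel₀ hp0 ?_
      linear_combination h' + ((s : ℂ) * ((k : ℂ) * p - e)) * hr - h1' + (-(p : ℂ)) * h2'
    have hle : ∑ φ ∈ (X ∪ Y)ᶜ, ‖(φ : G → ℂ) y - (mult' p φ : ℂ)‖ ^ 2 ≤ 0 := by
      have hQ := congrArg Complex.re (H.sum_mult_sq)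
      rw [Complex.re_sum, Complex.natCast_re] at hQ
      have hR := congrArg Complex.re hsum
      rw [Complex.re_sum, Complex.natCast_re] at hR
      have hb : ∀ φ ∈ (X ∪ Y)ᶜ, ‖(φ : G → ℂ) y - (mult' p φ : ℂ)‖ ^ 2 ≤
          2 * (((mult' p φ : ℂ)) ^ 2).re - 2 * ((mult' p φ : ℂ) * (φ : G → ℂ) y).re := by
        intro φ hφ
        have h' := hbd φ y hy hy1
        rw [hmo φ hφ] at h'
        have h'' : ‖(φ : G → ℂ) y‖ ^ 2 ≤ (mult' p φ : ℝ) ^ 2 :=
          pow_le_pow_left₀ (norm_nonneg _) h' 2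
        rw [Complex.sq_norm, Complex.normSq_apply] at h''
        rw [Complex.sq_norm, Complex.normSq_apply]
        simp only [Complex.sub_re, Complex.sub_im, Complex.natCast_re, Complex.natCast_im,
          Complex.mul_re, sq, zero_mul, sub_zero, mul_zero] at h'' ⊢
        linarith
      refine (sum_le_sum hb).trans (le_of_eq ?_)
      rw [sum_sub_distrib, ← mul_sum, ← mul_sum, hQ, hR, sub_self]
    have h0 := (sum_eq_zero_iff_of_nonneg fun i _ => sq_nonneg _).1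
      (le_antisymm hle (sum_nonneg fun i _ => sq_nonneg _)) φ hφ
    exact sub_eq_zero.1 (norm_eq_zero.1 ((pow_eq_zero_iff two_ne_zero).1 h0))

/-- The columns at the elements of the complement. -/
theorem Shape.column [Fintype (IrrCharacter G)]
    (H : Shape M S e n s k A X Y XA sg) {E : Subgroup G} [Fintype E] [DecidableEq E]
    (V : Vals M E e n s k p X Y XA) {y y' : G} (hy : y ∈ E) (hy1 : y ≠ 1) (hy' : y' ∈ E)
    (hy1' : y' ≠ 1) :
    ∑ χ : IrrCharacter G, (χ : G → ℂ) y * conj ((χ : G → ℂ) y') =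
      (k : ℂ) * s + ∑ χ ∈ XA, (χ : G → ℂ) y * conj ((χ : G → ℂ) y') +
        ∑ θ ∈ Y, (θ : G → ℂ) y * conj ((θ : G → ℂ) y') := by
  have h2 : (n : ℂ) + 1 = (k : ℂ) * s := by exact_mod_cast H.hn
  rw [H.split, trivIrr_apply, trivIrr_apply, map_one, mul_one,
    sum_eq_zero fun χ hχ => by rw [V.minus χ hχ y hy hy1, zero_mul], add_zero,
    sum_congr rfl fun φ (hφ : φ ∈ (X ∪ Y)ᶜ) => show (φ : G → ℂ) y * conj ((φ : G → ℂ) y') = (mult' p φ : ℂ) ^ 2 by
      rw [V.out φ hφ y hy hy1, V.out φ hφ y' hy' hy1', map_natCast, sq],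
    H.sum_mult_sq]
  linear_combination h2

end CfsgLib.BrauerPrime
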