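import Cfsg.Agent.BrauerPrime.EValues
import Cfsg.Agent.BlocksB.ClassSum

/-!
# The involution
-/

set_option autoImplicit false
set_option linter.style.haveILetI false
set_option linter.unusedSectionVars false

namespace CfsgLib.BrauerPrime

open Cfsg Finset CfsgLib.Block CfsgLib.Block.Chr CfsgLib.BrauerPairs
open CfsgLib.Cyclic (deg)
open scoped ComplexConjugate

universe u

variable {G : Type u} [Group G] [Fintype G] {p : ℕ} [Fact p.Prime] {S : Sylow p G}
  {M : Ideal AlgInt} [M.IsPrime] {e n s k A : ℕ} {X Y XA : Finset (IrrCharacter G)}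
  {sg : IrrCharacter G → ℤ}

open Classical in
theorem card_fib (t u : G) (hu : IsConj t u) :
    (univ.filter fun g : G => g * t * g⁻¹ = u).card =
      Nat.card (Subgroup.centralizer ({t} : Set G)) := by
  obtain ⟨g₀, hg₀⟩ := isConj_iff.1 hu
  rw [← Fintype.card_subtype, ← Nat.card_eq_fintype_card]
  refine Nat.card_congr
    { toFun := fun g => ⟨g₀⁻¹ * g.1, Subgroup.mem_centralizer_singleton_iff.2 ?_⟩
      invFun := fun c => ⟨g₀ * c.1, ?_⟩
      left_inv := fun g => Subtype.ext (by simp)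
      right_inv := fun c => Subtype.ext (by simp) }
  · calc g₀⁻¹ * g.1 * t = g₀⁻¹ * (g.1 * t * g.1⁻¹) * g.1 := by group
      _ = g₀⁻¹ * (g₀ * t * g₀⁻¹) * g.1 := by rw [g.2, hg₀]
      _ = t * (g₀⁻¹ * g.1) := by group
  · have hc : (c.1 : G) * t = t * c.1 := Subgroup.mem_centralizer_singleton_iff.1 c.2
    calc g₀ * c.1 * t * (g₀ * c.1)⁻¹ = g₀ * (c.1 * t) * c.1⁻¹ * g₀⁻¹ := by group
      _ = g₀ * (t * c.1) * c.1⁻¹ * g₀⁻¹ := by rw [hc]
      _ = g₀ * t * g₀⁻¹ := by group
      _ = u := hg₀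

open Classical in
/-- Conjugates inside the complement times the centralizer order. -/
theorem Shape.card_mul [Fintype (IrrCharacter G)] (H : Shape M S e n s k A X Y XA sg)
    {E : Subgroup G} (hE : Comp S E e) [Fintype E] (V : Vals M E e n s k p X Y XA) {y : G}
    (hy : y ∈ E) (hy1 : y ≠ 1) :
    Nat.card (Subgroup.centralizer ({y} : Set G)) *
      ((univ.erase (1 : E)).filter fun y' : E => IsConj y y').card = e * k * s := by
  have hcardE : ((univ.erase (1 : E)).card : ℂ) = (e : ℂ) - 1 := by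
    rw [card_erase_of_mem (mem_univ _), card_univ, ← Nat.card_eq_fintype_card, hE.card,
      Nat.cast_sub (by have := H.num.epos; omega), Nat.cast_one]
  obtain ⟨θ₀, hθ₀⟩ := card_pos.1 (H.blk.cardY ▸ H.blk.spos : 0 < Y.card)
  have h : ∑ y' ∈ univ.erase (1 : E),
      (if IsConj y (y' : G) then (Nat.card (Subgroup.centralizer ({y} : Set G)) : ℂ) else 0) =
      ∑ y' ∈ univ.erase (1 : E), ((k : ℂ) * s + ∑ χ ∈ XA, (χ : G → ℂ) y * conj ((χ : G → ℂ) y') +
        ∑ θ ∈ Y, (θ : G → ℂ) y * conj ((θ : G → ℂ) y')) :=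
    sum_congr rfl fun y' hy' => by
      rw [← column_orth (G := G) y (y' : G)]
      exact H.column V hy hy1 y'.2 fun h' => ne_of_mem_erase hy' (Subtype.ext h')
  rw [← sum_filter, sum_const, nsmul_eq_mul, sum_add_distrib, sum_add_distrib, sum_const,
    nsmul_eq_mul, hcardE, sum_comm (s := univ.erase (1 : E)) (t := XA),
    sum_comm (s := univ.erase (1 : E)) (t := Y),
    sum_congr rfl fun χ (hχ : χ ∈ XA) => show ∑ y' ∈ univ.erase (1 : E),
        (χ : G → ℂ) y * conj ((χ : G → ℂ) y') = (χ : G → ℂ) y * -((k : ℂ) * s) by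
      rw [← mul_sum, ← map_sum, V.plusSum χ hχ, map_neg, map_mul, map_natCast, map_natCast],
    sum_congr rfl fun θ (hθ : θ ∈ Y) => show ∑ y' ∈ univ.erase (1 : E),
        (θ : G → ℂ) y * conj ((θ : G → ℂ) y') = (θ₀ : G → ℂ) y * -(k : ℂ) by
      rw [← mul_sum, ← map_sum, V.excSum θ hθ, map_neg, map_natCast,
        H.blk.agree θ hθ θ₀ hθ₀ y (hE.not_dvd y hy)],
    ← sum_mul, sum_const, H.blk.cardY, nsmul_eq_mul] at h
  have hr := V.rel θ₀ hθ₀ y hy hy1
  have h' : ((Nat.card (Subgroup.centralizer ({y} : Set G)) *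
      ((univ.erase (1 : E)).filter fun y' : E => IsConj y y').card : ℕ) : ℂ) =
      ((e * k * s : ℕ) : ℂ) := by
    push_cast
    linear_combination h + ((k : ℂ) * s) * hr
  exact_mod_cast h'

open Classical in
theorem Shape.k_eq_one [Fintype (IrrCharacter G)] (H : Shape M S e n s k A X Y XA sg)
    {E : Subgroup G} (hE : Comp S E e) [Fintype E] (V : Vals M E e n s k p X Y XA) : k = 1 := by
  have hp : p.Prime := Fact.out
  haveI := hE.cyclic
  obtain ⟨⟨y, hy⟩, hgen⟩ := IsCyclic.exists_generator (α := E)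
  have hy1 : y ≠ 1 := fun h1 => by
    have h2 : ∀ w : E, w = 1 := fun w => by
      obtain ⟨i, hi⟩ := Subgroup.mem_zpowers_iff.1 (hgen w)
      rw [← hi, show (⟨y, hy⟩ : E) = 1 from Subtype.ext h1, _root_.one_zpow]
    have := H.num.epos
    rw [← hE.card, Nat.card_eq_one_iff_unique.2 ⟨⟨fun a b => (h2 a).trans (h2 b).symm⟩, ⟨1⟩⟩] at this
    omega
  have hzp : Subgroup.zpowers y = E := by
    refine le_antisymm (Subgroup.zpowers_le.2 hy) fun w hw => ?_
    obtain ⟨i, hi⟩ := Subgroup.mem_zpowers_iff.1 (hgen ⟨w, hw⟩)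
    exact ⟨i, congrArg Subtype.val hi⟩
  have hord : orderOf y = e := by rw [← Nat.card_zpowers, hzp, hE.card]
  set N := Subgroup.normalizer (E : Set G)
  haveI : Fintype N := Fintype.ofFinite _
  -- the elements sending the generator into `E` normalize `E`
  have hN : ∀ g : G, g ∈ N ↔ g * y * g⁻¹ ∈ E := by
    intro g
    refine ⟨fun hg => (Subgroup.mem_normalizer_iff.1 hg y).1 hy, fun hg => ?_⟩
    have hz : Subgroup.zpowers (g * y * g⁻¹) = E := by
      refine Subgroup.eq_of_le_of_card_ge (Subgroup.zpowers_le.2 hg) ?_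
      rw [Nat.card_zpowers, hE.card, ← hord]
      exact ((MulAut.conj g).orderOf_eq y).ge
    rw [Subgroup.mem_normalizer_iff]
    intro w
    constructor
    · intro hw
      obtain ⟨i, rfl⟩ : w ∈ Subgroup.zpowers y := hzp.symm ▸ hw
      rw [← conj_zpow]; exact zpow_mem hg i
    · intro hw
      obtain ⟨i, hi⟩ : g * w * g⁻¹ ∈ Subgroup.zpowers (g * y * g⁻¹) := hz.symm ▸ hw
      simp only [conj_zpow] at hi
      rw [← mul_left_cancel (mul_right_cancel hi)]
      exact zpow_mem hy i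
  have hcard : (univ.filter fun g : G => g * y * g⁻¹ ∈ E).card = e * k * s := by
    rw [← H.card_mul hE V hy hy1, card_eq_sum_card_fiberwise
      (f := fun g : G => g * y * g⁻¹)
      (t := ((univ.erase (1 : E)).filter fun y' : E => IsConj y y').map (Function.Embedding.subtype _))]
    · rw [sum_map, mul_comm]
      refine (sum_const_nat fun w hw => ?_)
      rw [← card_fib y (w : G) (mem_filter.1 hw).2]
      refine congrArg Finset.card (Finset.ext fun g => ⟨fun h => ?_, fun h => ?_⟩)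
      · exact mem_filter.2 ⟨mem_univ _, (mem_filter.1 h).2⟩
      · exact mem_filter.2 ⟨mem_filter.2 ⟨mem_univ _, by rw [(mem_filter.1 h).2]; exact w.2⟩,
          (mem_filter.1 h).2⟩
    · intro g hg
      rw [mem_coe, mem_map]
      rw [mem_coe, mem_filter] at hg
      refine ⟨⟨g * y * g⁻¹, hg.2⟩, mem_filter.2 ⟨mem_erase.2 ⟨fun h1 => hy1 ?_, mem_univ _⟩,
        isConj_iff.2 ⟨g, rfl⟩⟩, rfl⟩
      have h2 := congrArg Subtype.val h1
      simp only [OneMemClass.coe_one] at h2
      exact mul_left_cancel ((mul_inv_eq_one.1 h2).trans (mul_one g).symm)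
  have hNc : Nat.card N = e * k * s := by
    rw [← hcard, ← Fintype.card_subtype, ← Nat.card_eq_fintype_card]
    exact Nat.card_congr (Equiv.subtypeEquivRight hN)
  have hd : e * k * s ∣ p * e * (1 + n * p) := by
    rw [← hNc]
    have := Subgroup.card_subgroup_dvd_card N
    rwa [H.num.cardG, mul_one] at this
  obtain ⟨h1, h2, h3⟩ := H.int_eqs
  have hd' : ((e : ℤ) * s) * k ∣ ((e : ℤ) * s) * ((p : ℤ) * ((k : ℤ) * p - e)) := by
    have h4 := Int.natCast_dvd_natCast.2 hd
    push_cast at h4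
    rw [show ((e : ℤ) * s) * ((p : ℤ) * ((k : ℤ) * p - e)) = (p : ℤ) * e * (1 + n * p) by
      linear_combination (-(p : ℤ) * e * p) * h2 - ((p : ℤ) * e) * h1]
    rwa [show ((e : ℤ) * s) * k = (e : ℤ) * k * s by ring]
  have hes0 : (e : ℤ) * s ≠ 0 := by
    have := H.num.epos; have := H.s2; positivity
  have h5 : (k : ℤ) ∣ (p : ℤ) * ((k : ℤ) * p - e) := Int.dvd_of_mul_dvd_mul_left hes0 hd'
  have h6 : (k : ℤ) ∣ (p : ℤ) * e := by
    have := Int.dvd_sub (dvd_mul_right (k : ℤ) ((p : ℤ) * p)) h5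
    rwa [show (k : ℤ) * ((p : ℤ) * p) - (p : ℤ) * ((k : ℤ) * p - e) = (p : ℤ) * e by ring] at this
  have h6' : k ∣ p * e := by exact_mod_cast h6
  have hkp : k < p := by
    have := H.blk.hes
    have h7 : e ≤ e * s := Nat.le_mul_of_pos_right _ H.blk.spos
    have := H.he
    omega
  have hcop : Nat.Coprime k p :=
    ((hp.coprime_iff_not_dvd).2 fun hd2 => by have := Nat.le_of_dvd H.kpos hd2; omega).symm
  have h8 : (k : ℤ) ∣ 1 := by
    have h9 : (k : ℤ) ∣ (e : ℤ) := Int.natCast_dvd_natCast.2 (hcop.dvd_of_dvd_mul_left h6')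
    have := Int.dvd_sub h9 (dvd_mul_right (k : ℤ) (1 + A * s))
    rwa [show (e : ℤ) - k * (1 + A * s) = 1 by linear_combination h3] at this
  exact Nat.dvd_one.1 (by exact_mod_cast h8)

open Classical in
/-- **The case `n ≥ 2`.** -/
theorem Shape.involution (H : Shape M S e n s k A X Y XA sg) :
    ∃ t : G, orderOf t = 2 ∧ e = 2 ∧ Nat.card (Subgroup.centralizer ({t} : Set G)) = p - 1 ∧
      ∀ c ∈ Subgroup.centralizer ({t} : Set G), c ≠ 1 → IsConj t c := by
  have hp : p.Prime := Fact.out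
  letI := irrFintype (G := G)
  obtain ⟨E, hE⟩ := exists_comp H.setup H.num
  haveI : Fintype E := Fintype.ofFinite _
  have V := H.vals hE
  obtain rfl := H.k_eq_one hE V
  have he2 := H.num.epos
  have hes := H.blk.hes
  have hn := H.hn
  rw [one_mul] at hn
  have hn2 := H.n2
  have hs3 : 3 ≤ s := by omega
  have heA : e = 2 + A * s := by have := H.he; rw [one_mul] at this; omega
  have hp2 : p % 2 = 1 := by
    rcases hp.eq_two_or_odd with h' | h'
    · exfalso; have := Nat.mul_le_mul he2 hs3; omega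
    · exact h'
  have hev : 2 ∣ e := by
    by_contra hodd
    have h1 : (A * s) % 2 = 1 := by omega
    have h2 : s % 2 = 1 := Nat.odd_iff.1 (Nat.odd_mul.1 (Nat.odd_iff.2 h1)).2
    have h3 : (e * s) % 2 = 0 := by omega
    rw [Nat.mul_mod, h2] at h3
    omega
  haveI : Fact (Nat.Prime 2) := ⟨Nat.prime_two⟩
  haveI := hE.cyclic
  obtain ⟨⟨t, htE⟩, hto⟩ := exists_prime_orderOf_dvd_card' (G := E) 2 (hE.card.symm ▸ hev)
  have ht2 : orderOf t = 2 := by rw [← hto, ← Subgroup.orderOf_coe]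
  have ht1 : t ≠ 1 := fun h1 => by rw [h1, orderOf_one] at ht2; omega
  have htinv : t⁻¹ = t := inv_eq_of_mul_eq_one_right (by rw [← sq, ← ht2, pow_orderOf_eq_one])
  -- `t` is the only involution of `E`
  have huniq : ∀ w ∈ E, orderOf w = 2 → w = t := by
    intro w hw hwo
    have h1 : Subgroup.zpowers w = Subgroup.zpowers t := by
      have h2 : ∀ v : E, v ^ 2 = 1 → v = 1 ∨ v = ⟨t, htE⟩ := by
        intro v hv
        by_contra hne
        push Not at hne
        have h3 := IsCyclic.card_pow_eq_one_le (α := E) (n := 2) two_pos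
        have h4 : ({1, ⟨t, htE⟩, v} : Finset E) ⊆ univ.filter fun a : E => a ^ 2 = 1 := by
          intro a ha
          simp only [mem_insert, mem_singleton] at ha
          rw [mem_filter]
          refine ⟨mem_univ _, ?_⟩
          rcases ha with rfl | rfl | rfl
          · exact one_pow 2
          · exact Subtype.ext (show t ^ 2 = 1 by rw [← ht2, pow_orderOf_eq_one])
          · exact hv
        have h5 := (card_le_card h4).trans h3
        rw [card_insert_of_notMem (by
            simp only [mem_insert, mem_singleton, not_or]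
            exact ⟨fun h' => ht1 (congrArg Subtype.val h').symm, Ne.symm hne.1⟩),
          card_insert_of_notMem (by simp only [mem_singleton]; exact Ne.symm hne.2),
          card_singleton] at h5
        omega
      rcases h2 ⟨w, hw⟩ (Subtype.ext (show w ^ 2 = 1 by rw [← hwo, pow_orderOf_eq_one])) with h3 | h3
      · rw [show w = 1 from congrArg Subtype.val h3, orderOf_one] at hwo; omega
      · rw [show w = t from congrArg Subtype.val h3]
    have hmem : w ∈ Subgroup.zpowers t := h1 ▸ Subgroup.mem_zpowers w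
    obtain ⟨i, rfl⟩ := hmem
    rcases Int.even_or_odd i with ⟨j, hj⟩ | ⟨j, hj⟩
    · exfalso
      simp only [hj, ← two_mul, zpow_mul, zpow_two,
        show t * t = 1 from by rw [← sq, ← ht2, pow_orderOf_eq_one], _root_.one_zpow,
        orderOf_one] at hwo
      omega
    · simp only [hj, zpow_add, zpow_mul, zpow_two,
        show t * t = 1 from by rw [← sq, ← ht2, pow_orderOf_eq_one], _root_.one_zpow, zpow_one,
        one_mul]
  -- the order of the centralizer
  have hfil : ((univ.erase (1 : E)).filter fun y' : E => IsConj t y') = {⟨t, htE⟩} := by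
    refine eq_singleton_iff_unique_mem.2 ⟨mem_filter.2 ⟨mem_erase.2
      ⟨fun h1 => ht1 (congrArg Subtype.val h1), mem_univ _⟩, IsConj.refl _⟩, fun w hw => ?_⟩
    refine Subtype.ext (huniq w w.2 ?_)
    obtain ⟨g, hg⟩ := isConj_iff.1 (mem_filter.1 hw).2
    rw [← hg]
    exact ((MulAut.conj g).orderOf_eq t).trans ht2
  have hC : Nat.card (Subgroup.centralizer ({t} : Set G)) = e * s := by
    have := H.card_mul hE V htE ht1
    rw [hfil, card_singleton, mul_one, mul_one] at this
    exact this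
  set C := Subgroup.centralizer ({t} : Set G) with hCdef
  haveI : Fintype C := Fintype.ofFinite _
  -- the values at `t`
  obtain ⟨θ₀, hθ₀⟩ := card_pos.1 (H.blk.cardY ▸ H.blk.spos : 0 < Y.card)
  have hreal : ∀ χ : IrrCharacter G, conj ((χ : G → ℂ) t) = (χ : G → ℂ) t := fun χ => by
    rw [conj_irr, htinv]
  have hagree : ∀ θ ∈ Y, (θ : G → ℂ) t = (θ₀ : G → ℂ) t := fun θ hθ =>
    H.blk.agree θ hθ θ₀ hθ₀ t (hE.not_dvd t htE)
  have hcol : (e : ℝ) * s = s + ∑ χ ∈ XA, ‖(χ : G → ℂ) t‖ ^ 2 + s * ‖(θ₀ : G → ℂ) t‖ ^ 2 := by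
    have h1 := column_orth (G := G) t t
    rw [if_pos (IsConj.refl _), ← hCdef, hC, H.column V htE ht1 htE ht1,
      sum_congr rfl fun θ (hθ : θ ∈ Y) => show (θ : G → ℂ) t * conj ((θ : G → ℂ) t) =
        ((‖(θ₀ : G → ℂ) t‖ : ℂ)) ^ 2 by rw [Complex.mul_conj', hagree θ hθ],
      sum_congr rfl fun χ (hχ : χ ∈ XA) => Complex.mul_conj' ((χ : G → ℂ) t),
      sum_const, H.blk.cardY, nsmul_eq_mul, Nat.cast_one, one_mul] at h1
    have h2 := congrArg Complex.re h1
    push_cast at h2
    simp only [Complex.add_re, Complex.mul_re, Complex.natCast_re, Complex.natCast_im,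
      Complex.re_sum, ← Complex.ofReal_pow, Complex.ofReal_re, Complex.ofReal_im, mul_zero,
      sub_zero] at h2
    linarith
  have hbA : ∀ χ ∈ XA, ‖(χ : G → ℂ) t‖ ^ 2 ≤ (s : ℝ) ^ 2 := fun χ hχ => by
    have h1 := V.plusBound χ hχ t htE ht1
    rw [one_mul] at h1
    exact pow_le_pow_left₀ (norm_nonneg _) h1 2
  have hbY : ‖(θ₀ : G → ℂ) t‖ ^ 2 ≤ 1 := by
    have h1 := V.excBound θ₀ hθ₀ t htE ht1
    rw [one_mul] at h1
    have h2 : ‖(θ₀ : G → ℂ) t‖ ≤ 1 :=
      le_of_mul_le_mul_left (h1.trans (mul_one _).ge) (by exact_mod_cast H.blk.spos)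
    exact (pow_le_pow_left₀ (norm_nonneg _) h2 2).trans (one_pow 2).le
  have hsumA : ∑ χ ∈ XA, ((s : ℝ) ^ 2 - ‖(χ : G → ℂ) t‖ ^ 2) +
      (s : ℝ) * (1 - ‖(θ₀ : G → ℂ) t‖ ^ 2) = 0 := by
    have heA' : (e : ℝ) = 2 + A * s := by exact_mod_cast heA
    rw [sum_sub_distrib, sum_const, H.cardA, nsmul_eq_mul]
    linear_combination hcol + (-(s : ℝ)) * heA'
  have hs0 : (0 : ℝ) < s := by exact_mod_cast H.blk.spos
  have hA2 := (add_eq_zero_iff_of_nonneg (sum_nonneg fun χ hχ => sub_nonneg.2 (hbA χ hχ))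
    (mul_nonneg hs0.le (sub_nonneg.2 hbY))).1 hsumA
  have hTsq : ∀ χ ∈ XA, (χ : G → ℂ) t ^ 2 = (s : ℂ) ^ 2 := fun χ hχ => by
    have h1 := (sum_eq_zero_iff_of_nonneg fun χ hχ => sub_nonneg.2 (hbA χ hχ)).1 hA2.1 χ hχ
    have h2 : ‖(χ : G → ℂ) t‖ ^ 2 = (s : ℝ) ^ 2 := (sub_eq_zero.1 h1).symm
    rw [sq, show (χ : G → ℂ) t * (χ : G → ℂ) t = (χ : G → ℂ) t * conj ((χ : G → ℂ) t) by
      rw [hreal], Complex.mul_conj']
    exact_mod_cast h2
  have hZsq : (θ₀ : G → ℂ) t ^ 2 = 1 := by
    have h1 : 1 - ‖(θ₀ : G → ℂ) t‖ ^ 2 = 0 := (mul_eq_zero.1 hA2.2).resolve_left hs0.ne'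
    rw [sq, show (θ₀ : G → ℂ) t * (θ₀ : G → ℂ) t = (θ₀ : G → ℂ) t * conj ((θ₀ : G → ℂ) t) by
      rw [hreal], Complex.mul_conj']
    exact_mod_cast (sub_eq_zero.1 h1).symm
  -- the class multiplication
  set U := univ.filter fun u : G => IsConj t u ∧ IsConj t (u * t) with hU
  have hinv : ∀ u : G, IsConj t u → u⁻¹ = u := fun u hu => by
    obtain ⟨g, hg⟩ := isConj_iff.1 hu
    rw [← hg]
    simp [mul_assoc, htinv]
  have hpairs : (univ.filter fun gh : G × G =>
      gh.1 * t * gh.1⁻¹ * (gh.2 * t * gh.2⁻¹) = t).card = U.card * ((e * s) * (e * s)) := by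
    rw [card_eq_sum_card_fiberwise (f := fun gh : G × G => gh.1 * t * gh.1⁻¹) (t := U)]
    · refine sum_const_nat fun u hu => ?_
      rw [hU, mem_filter] at hu
      rw [show (univ.filter fun gh : G × G => gh.1 * t * gh.1⁻¹ * (gh.2 * t * gh.2⁻¹) = t).filter
          (fun gh => gh.1 * t * gh.1⁻¹ = u) =
          (univ.filter fun g : G => g * t * g⁻¹ = u) ×ˢ (univ.filter fun h : G => h * t * h⁻¹ = u * t)
        from ?_, card_product, card_fib t u hu.2.1, card_fib t (u * t) hu.2.2, ← hCdef, hC]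
      ext ⟨g, h⟩
      simp only [mem_filter, mem_univ, true_and, mem_product]
      constructor
      · rintro ⟨h1, h2⟩
        rw [h2] at h1
        exact ⟨h2, by rw [eq_inv_mul_iff_mul_eq.2 h1, hinv u hu.2.1]⟩
      · rintro ⟨h1, h2⟩
        refine ⟨?_, h1⟩
        rw [h1, h2, ← mul_assoc]
        conv_lhs => arg 1; arg 1; rw [← hinv u hu.2.1]
        rw [inv_mul_cancel, one_mul]
    · intro gh hgh
      rw [mem_coe, mem_filter] at hgh
      rw [hU, mem_coe, mem_filter]
      refine ⟨mem_univ _, isConj_iff.2 ⟨gh.1, rfl⟩, isConj_iff.2 ⟨gh.2, ?_⟩⟩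
      show gh.2 * t * gh.2⁻¹ = gh.1 * t * gh.1⁻¹ * t
      rw [eq_inv_mul_iff_mul_eq.2 hgh.2, hinv _ (isConj_iff.2 ⟨gh.1, rfl⟩)]
  obtain ⟨he1', hn1', -⟩ := H.int_eqs
  have h1c : (e : ℂ) * s + 1 = (p : ℂ) := by exact_mod_cast he1'
  have h2c : (n : ℂ) + 1 = (s : ℂ) := by exact_mod_cast hn
  have hx0 : (p : ℂ) - e ≠ 0 := by
    rw [← h1c]
    have : ((e * (s - 1) + 1 : ℕ) : ℂ) ≠ 0 := Nat.cast_ne_zero.2 (by omega)
    rw [Nat.cast_add, Nat.cast_mul, Nat.cast_sub (by omega)] at this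
    push_cast at this
    convert this using 1
    ring
  have hp0 : (p : ℂ) ≠ 0 := Nat.cast_ne_zero.2 hp.ne_zero
  have hsC : (s : ℂ) ≠ 0 := Nat.cast_ne_zero.2 (by omega)
  have heC : (e : ℂ) ≠ 0 := Nat.cast_ne_zero.2 (by omega)
  have hsum : ∑ χ : IrrCharacter G, (χ : G → ℂ) t * (χ : G → ℂ) t * (χ : G → ℂ) t⁻¹ / (χ : G → ℂ) 1 =
      1 - (s : ℂ) / ((p : ℂ) - e) + (n : ℂ) / p := by
    rw [H.split, trivIrr_apply, trivIrr_apply, trivIrr_apply,
      sum_eq_zero fun χ hχ => by rw [V.minus χ hχ t htE ht1, zero_mul, zero_mul, zero_div],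
      sum_congr rfl fun χ (hχ : χ ∈ XA) => show
          (χ : G → ℂ) t * (χ : G → ℂ) t * (χ : G → ℂ) t⁻¹ / (χ : G → ℂ) 1 =
            (s : ℂ) / ((p : ℂ) - e) * (χ : G → ℂ) t by
        rw [htinv, ← sq, hTsq χ hχ, apply_one_eq, (H.hA χ hχ).2]
        push_cast
        field_simp,
      sum_congr rfl fun θ (hθ : θ ∈ Y) => show
          (θ : G → ℂ) t * (θ : G → ℂ) t * (θ : G → ℂ) t⁻¹ / (θ : G → ℂ) 1 =
            1 / ((p : ℂ) - e) * (θ₀ : G → ℂ) t by
        rw [htinv, hagree θ hθ, ← sq, hZsq, apply_one_eq, H.degY θ hθ]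
        push_cast
        field_simp,
      sum_congr rfl fun φ (hφ : φ ∈ (X ∪ Y)ᶜ) => show
          (φ : G → ℂ) t * (φ : G → ℂ) t * (φ : G → ℂ) t⁻¹ / (φ : G → ℂ) 1 =
            (mult' p φ : ℂ) ^ 2 / p by
        have hm0 : (mult' p φ : ℂ) ≠ 0 := by
          intro h0
          have h1 := deg_pos φ
          have h2 := H.mult_spec (H.mem_compl_iff.1 hφ)
          rw [Nat.cast_eq_zero.1 h0, Nat.cast_zero, mul_zero] at h2
          omega
        rw [htinv, V.out φ hφ t htE ht1, apply_one_eq, H.mult_spec (H.mem_compl_iff.1 hφ)]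
        push_cast
        field_simp,
      ← mul_sum, sum_const, H.blk.cardY, ← sum_div, H.sum_mult_sq, nsmul_eq_mul]
    have hr := V.rel θ₀ hθ₀ t htE ht1
    field_simp
    linear_combination (-(p : ℂ) * s) * hr
  have hUcard : U.card = e * s - e := by
    have h := CfsgLib.BlocksB.card_pairs t t t
    rw [hpairs, ← sum_irr_eq (fun χ => χ t * χ t * χ t⁻¹ / χ 1), hsum, H.num.cardG] at h
    push_cast at h
    have h' : (U.card : ℂ) = ((e * s - e : ℕ) : ℂ) := by
      rw [Nat.cast_sub (Nat.le_mul_of_pos_right _ H.blk.spos), Nat.cast_mul]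
      refine mul_right_cancel₀ (mul_ne_zero (mul_ne_zero heC hsC) (mul_ne_zero heC hsC)) ?_
      rw [h]
      field_simp
      have hn' : (n : ℂ) = (s : ℂ) - 1 := by linear_combination h2c
      rw [hn', ← h1c]
      ring
    exact_mod_cast h'
  -- everything outside `E` is conjugate to `t`
  have hEC : E ≤ C := fun w hw => Subgroup.mem_centralizer_singleton_iff.2 (by
    obtain ⟨g, hg⟩ := IsCyclic.exists_generator (α := E)
    have hcomm : ∀ a b : E, a * b = b * a := fun a b => by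
      obtain ⟨i, rfl⟩ := hg a
      obtain ⟨j, rfl⟩ := hg b
      exact zpow_mul_comm g i j
    exact congrArg Subtype.val (hcomm ⟨w, hw⟩ ⟨t, htE⟩))
  have hUsub : U ⊆ univ.filter fun u : G => u ∈ C ∧ u ∉ E := by
    intro u hu
    rw [hU, mem_filter] at hu
    have h1 := hinv u hu.2.1
    have h2 := hinv _ hu.2.2
    rw [_root_.mul_inv_rev, htinv, h1] at h2
    refine mem_filter.2 ⟨mem_univ _, Subgroup.mem_centralizer_singleton_iff.2 h2.symm, fun huE => ?_⟩
    have hord : orderOf u = 2 := by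
      obtain ⟨g, hg⟩ := isConj_iff.1 hu.2.1
      rw [← hg]
      exact ((MulAut.conj g).orderOf_eq t).trans ht2
    rw [huniq u huE hord] at hu
    have h3 := hu.2.2
    rw [show t * t = 1 by rw [← sq, ← ht2, pow_orderOf_eq_one]] at h3
    exact ht1 (isConj_one_left.1 h3)
  have hUeq : U = univ.filter fun u : G => u ∈ C ∧ u ∉ E := by
    refine eq_of_subset_of_card_le hUsub ?_
    rw [hUcard, show (univ.filter fun u : G => u ∈ C ∧ u ∉ E) =
        (univ.filter fun u : G => u ∈ C) \ (univ.filter fun u : G => u ∈ E) by ext; simp,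
      card_sdiff_of_subset (fun u hu => mem_filter.2 ⟨mem_univ _, hEC (mem_filter.1 hu).2⟩),
      ← Fintype.card_subtype, ← Fintype.card_subtype, ← Nat.card_eq_fintype_card,
      ← Nat.card_eq_fintype_card]
    show Nat.card C - Nat.card E ≤ _
    rw [hC, hE.card]
  have hout : ∀ c ∈ C, c ∉ E → IsConj t c := fun c hc hcE => by
    have : c ∈ U := hUeq ▸ mem_filter.2 ⟨mem_univ _, hc, hcE⟩
    rw [hU, mem_filter] at this
    exact this.2.1
  -- `E` is inverted by everything outside it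
  have hinvE : ∀ c ∈ C, c ∉ E → ∀ w ∈ E, c * w * c = w⁻¹ := by
    intro c hc hcE w hw
    have h1 : c * w ∈ C := mul_mem hc (hEC hw)
    have h2 : c * w ∉ E := fun h' => hcE (by
      have h3 := mul_mem h' (inv_mem hw)
      rwa [mul_inv_cancel_right] at h3)
    have h3 := hinv _ (hout _ h1 h2)
    rw [_root_.mul_inv_rev, hinv _ (hout c hc hcE)] at h3
    calc c * w * c = w⁻¹ * c * c := by rw [← h3]
      _ = w⁻¹ := by
        rw [mul_assoc]
        conv_lhs => arg 2; arg 1; rw [← hinv _ (hout c hc hcE)]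
        rw [inv_mul_cancel, mul_one]
  have heq : e = 2 := by
    by_contra hne
    obtain ⟨c, hc, hcE⟩ : ∃ c ∈ C, c ∉ E := by
      by_contra hall
      push Not at hall
      have h' := Nat.le_of_dvd Nat.card_pos (Subgroup.card_dvd_of_le (show C ≤ E from hall))
      rw [hC, hE.card] at h'
      have := Nat.mul_le_mul_left e hs3
      omega
    obtain ⟨c', hc', hc'E, hcc⟩ : ∃ c' ∈ C, c' ∉ E ∧ c * c' ∉ E := by
      by_contra hall
      push Not at hall
      have hsub : (univ.filter fun u : G => u ∈ C) ⊆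
          (univ.filter fun u : G => u ∈ E) ∪ (univ.filter fun u : G => u ∈ E).image (c⁻¹ * ·) := by
        intro u hu
        rw [mem_union]
        by_cases huE : u ∈ E
        · exact Or.inl (mem_filter.2 ⟨mem_univ _, huE⟩)
        · exact Or.inr (mem_image.2 ⟨c * u, mem_filter.2 ⟨mem_univ _,
            hall u (mem_filter.1 hu).2 huE⟩, inv_mul_cancel_left c u⟩)
      have h' := (card_le_card hsub).trans ((card_union_le _ _).trans (Nat.add_le_add_left card_image_le _))
      rw [← Fintype.card_subtype, ← Fintype.card_subtype, ← Nat.card_eq_fintype_card,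
        ← Nat.card_eq_fintype_card, show Nat.card {x // x ∈ C} = e * s from hC,
        show Nat.card {x // x ∈ E} = e from hE.card] at h'
      have := Nat.mul_le_mul_left e hs3
      omega
    have hsq : ∀ w ∈ E, w ^ 2 = 1 := by
      intro w hw
      have h1 := hinvE c hc hcE w hw
      have h2 := hinvE c' hc' hc'E w hw
      have h3 := hinvE (c * c') (mul_mem hc hc') hcc w hw
      have hcinv := hinv _ (hout c hc hcE)
      have hc'inv := hinv _ (hout c' hc' hc'E)
      have h4 := hinv _ (hout _ (mul_mem hc hc') hcc)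
      have h5 : c * c' * w * (c * c') = w := by
        calc c * c' * w * (c * c') = c * c' * w * (c' * c) := by
              conv_lhs => arg 2; rw [← h4, _root_.mul_inv_rev, hcinv, hc'inv]
          _ = c * (c' * w * c') * c := by group
          _ = c * w⁻¹ * c := by rw [h2]
          _ = w := by rw [hinvE c hc hcE w⁻¹ (inv_mem hw), inv_inv]
      rw [h5] at h3
      rw [sq]
      nth_rewrite 2 [h3]
      exact mul_inv_cancel w
    have h5 : Nat.card E ≤ 2 := by
      rw [Nat.card_eq_fintype_card, ← card_univ,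
        show (univ : Finset E) = univ.filter fun a : E => a ^ 2 = 1 by
          ext a; simp only [mem_univ, mem_filter, true_and, true_iff]; exact Subtype.ext (hsq a a.2)]
      exact IsCyclic.card_pow_eq_one_le two_pos
    rw [hE.card] at h5
    omega
  refine ⟨t, ht2, heq, by rw [hC]; omega, fun c hc hc1 => ?_⟩
  by_cases hcE : c ∈ E
  · have h1 : orderOf c ∣ 2 := heq ▸ hE.card ▸ Subgroup.orderOf_dvd_natCard E hcE
    rcases (Nat.dvd_prime Nat.prime_two).1 h1 with h2 | h2
    · exact absurd (orderOf_eq_one_iff.1 h2) hc1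
    · rw [huniq c hcE h2]
  · exact hout c hc hcE

end CfsgLib.BrauerPrime
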