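import Cfsg.Agent.BrauerPrime.Involution
import Cfsg.Agent.S0732
import Cfsg.Agent.S1230
import Cfsg.Agent.Zassenhaus.SemilinearSolvable

/-!
# Brauer's theorem for a prime to the first power
-/

set_option autoImplicit false
set_option linter.style.haveILetI false
set_option linter.unusedSectionVars false

namespace CfsgLib.BrauerPrime

open Cfsg Finset CfsgLib.Block CfsgLib.Block.Chr

universe u

variable {G : Type u} [Group G] [Fintype G] {p : ℕ} [Fact p.Prime] {S : Sylow p G}

/-- A perfect group of semi-affine maps of a finite field is trivial. -/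
theorem semiaffine_trivial {F : Type} [Field F] [Finite F] (hperf : commutator G = ⊤)
    (f : G →* Equiv.Perm F) (hinj : Function.Injective f)
    (hf : ∀ g : G, f g ∈ Cfsg.semiaffineGroup F) : Subsingleton G := by
  classical
  have hspec : ∀ g : G, ∃ (a : Fˣ) (b : F) (φ : F ≃+* F), ∀ x, f g x = (a : F) * φ x + b := hf
  choose a b φ hφ using hspec
  have hkey : ∀ g h : G, φ (g * h) = φ g * φ h ∧
      (a (g * h) : F) = (a g : F) * φ g (a h : F) := by
    intro g h
    have e : ∀ x, (a (g * h) : F) * φ (g * h) x + b (g * h) =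
        (a g : F) * φ g ((a h : F) * φ h x + b h) + b g := fun x => by
      rw [← hφ, ← hφ h, ← hφ g, map_mul]; rfl
    have e0 := e 0
    simp only [map_zero, mul_zero, zero_add] at e0
    have e' : ∀ x, (a (g * h) : F) * φ (g * h) x = (a g : F) * φ g (a h : F) * φ g (φ h x) := by
      intro x
      have := e x
      rw [map_add, map_mul, e0] at this
      linear_combination this
    have e1 := e' 1
    simp only [map_one, mul_one] at e1
    refine ⟨RingEquiv.ext fun x => ?_, e1⟩
    have h2 := e' x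
    rw [e1] at h2
    exact mul_left_cancel₀ (mul_ne_zero (a g).ne_zero ((map_ne_zero (φ g)).2 (a h).ne_zero)) h2
  let π : G →* (F ≃+* F) := MonoidHom.mk' φ fun g h => (hkey g h).1
  have hπ : ∀ g, φ g = 1 := by
    have hker : commutator G ≤ π.ker := by
      rw [commutator_def, Subgroup.commutator_le]
      intro x _ y _
      rw [MonoidHom.mem_ker, map_commutatorElement, commutatorElement_eq_one_iff_mul_comm]
      exact CfsgLib.SemiReg.ringEquiv_comm _ _
    exact fun g => MonoidHom.mem_ker.1 (hker (hperf ▸ Subgroup.mem_top g))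
  let α : G →* Fˣ := MonoidHom.mk' a fun g h => Units.ext (by
    rw [(hkey g h).2, hπ g]; rfl)
  have hα : ∀ g, a g = 1 := by
    have hker : commutator G ≤ α.ker := by
      rw [commutator_def, Subgroup.commutator_le]
      intro x _ y _
      rw [MonoidHom.mem_ker, map_commutatorElement, commutatorElement_eq_one_iff_mul_comm]
      exact mul_comm _ _
    exact fun g => MonoidHom.mem_ker.1 (hker (hperf ▸ Subgroup.mem_top g))
  have hx : ∀ g x, f g x = x + b g := fun g x => by
    rw [hφ, hπ, hα, Units.val_one, one_mul]; rfl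
  have hcomm : ∀ g h : G, g * h = h * g := fun g h => hinj (Equiv.ext fun x => by
    rw [map_mul, map_mul, Equiv.Perm.mul_apply, Equiv.Perm.mul_apply, hx, hx, hx, hx]; ring)
  have htop : commutator G = ⊥ := by
    rw [commutator_def, eq_bot_iff, Subgroup.commutator_le]
    intro x _ y _
    rw [Subgroup.mem_bot, commutatorElement_eq_one_iff_mul_comm]
    exact hcomm x y
  rw [hperf] at htop
  exact ⟨fun x y => ((Subgroup.mem_bot.1 (htop ▸ Subgroup.mem_top x))).trans
    (Subgroup.mem_bot.1 (htop ▸ Subgroup.mem_top y)).symm⟩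

/-- The case of `p + 1` Sylow subgroups. -/
theorem of_n_eq_one (h : Setup G p S) {c e : ℕ} (num : Num S c e 1) :
    3 < p ∧ Nonempty (G ≃* Matrix.ProjectiveSpecialLinearGroup (Fin 2) (ZMod p)) := by
  classical
  have hp : p.Prime := Fact.out
  obtain ⟨M, hM⟩ := exists_isPModular hp
  haveI := hM.2.1.isPrime
  have hE : ¬ Eqn p 1 := not_eqn_of_lt (by have := hp.two_le; omega)
  obtain ⟨s, X, Y, sg, ε, B⟩ := exists_blk hM h num
  obtain ⟨χ, hχ, hsg, hdeg⟩ := B.exists_minus hM h num hE
  have hc := B.c_eq_one hM h num hχ hdeg hsg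
  subst hc
  have hs1 := B.s_ne_one h num hdeg
  have hes := B.hes
  have hs0 := B.spos
  have hlt : e < p := by
    have := Nat.le_mul_of_pos_right e hs0
    omega
  haveI : Fintype (Sylow p G) := Fintype.ofFinite _
  let f : G →* Equiv.Perm (Sylow p G) := MulAction.toPermHom G (Sylow p G)
  have hf : Function.Injective f := by
    rw [← MonoidHom.ker_eq_bot_iff]
    refine h.core _ inferInstance fun hd => ?_
    obtain ⟨⟨w, hw⟩, hwo⟩ := exists_prime_orderOf_dvd_card' p hd
    have hwo' : orderOf w = p := by rw [← hwo, ← Subgroup.orderOf_coe]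
    obtain ⟨Q, hQ⟩ := (IsPGroup.of_card (n := 1) (by rw [Nat.card_zpowers, hwo', pow_one]) :
      IsPGroup p (Subgroup.zpowers w)).exists_le_sylow
    have hQw : (Q : Subgroup G) = Subgroup.zpowers w := by
      refine (Subgroup.eq_of_le_of_card_ge hQ ?_).symm
      rw [Nat.card_zpowers, hwo', Q.card_eq_multiplicity, ← S.card_eq_multiplicity]
      exact h.cardP.le
    obtain ⟨a, ha⟩ := MulAction.exists_smul_eq G Q S
    -- `S` lies in the kernel and so normalizes every Sylow subgroup
    have hS : (S : Subgroup G) ≤ f.ker := by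
      intro v hv
      rw [← ha] at hv
      obtain ⟨v', hv', rfl⟩ := hv
      refine (inferInstance : f.ker.Normal).conj_mem _ ?_ a
      exact (Subgroup.zpowers_le.2 hw) (hQw ▸ hv')
    refine not_normal h ?_
    have huniq : ∀ R : Sylow p G, R = S := fun R => by
      have hle : (S : Subgroup G) ≤ Subgroup.normalizer ((R : Subgroup G) : Set G) := fun v hv =>
        Sylow.smul_eq_iff_mem_normalizer.1 (Equiv.Perm.congr_fun (MonoidHom.mem_ker.1 (hS hv)) R)
      exact Sylow.ext (S.2.inf_normalizer_sylow R ▸ inf_eq_left.2 hle |> fun h1 => by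
        have h2 : (S : Subgroup G) ≤ R := by
          rw [← inf_eq_left, ← h1]
          simp
        exact (Subgroup.eq_of_le_of_card_ge h2 (by
          rw [show Nat.card (R : Subgroup G) = p by
            rw [R.card_eq_multiplicity, ← S.card_eq_multiplicity]; exact h.cardP]
          exact h.cardP.ge)).symm)
    haveI : Subsingleton (Sylow p G) := ⟨fun a b => (huniq a).trans (huniq b).symm⟩
    exact Sylow.normal_of_subsingleton S
  let eG : G ≃* f.range := MonoidHom.ofInjective hf
  haveI : MulAction.IsPretransitive f.range (Sylow p G) := ⟨fun a b => by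
    obtain ⟨g, hg⟩ := MulAction.exists_smul_eq G a b
    exact ⟨⟨f g, g, rfl⟩, hg⟩⟩
  have hα : Fintype.card (Sylow p G) = p + 1 := by
    rw [← Nat.card_eq_fintype_card, num.sylow, one_mul, add_comm]
  have hG : Nat.card f.range = (p + 1) * p * e := by
    rw [← Nat.card_congr eG.toEquiv, num.cardG]; ring
  rcases Cfsg.Agent.S0732.result hp hα f.range hG hlt with ⟨h1, -⟩ | ⟨h1, ⟨e1⟩⟩ | ⟨q, hq, hq2, -, em, hem⟩
  · exfalso
    refine hs1 ?_
    have h2 : e * s = e * 1 := by omega
    exact Nat.eq_of_mul_eq_mul_left (by have := num.epos; omega) h2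
  · refine ⟨?_, ⟨eG.trans e1⟩⟩
    have := num.epos
    omega
  · exfalso
    haveI : Finite (GaloisField 2 q) := Finite.of_equiv _ em
    have hsub := semiaffine_trivial h.perfect
      ((em.permCongrHom.toMonoidHom).comp f)
      (em.permCongrHom.injective.comp hf) (fun g => hem ⟨f g, g, rfl⟩)
    obtain ⟨z, -, hz1⟩ := exists_ne_one h
    exact hz1 (Subsingleton.elim z 1)

/-- **Brauer's dichotomy**: without a solution of Brauer's equation the group is known. -/
theorem classify (h : Setup G p S) {n : ℕ} (hn : Nat.card (Sylow p G) = 1 + n * p)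
    (hE : ¬ Eqn p n) :
    (∃ (F : Type) (_ : Field F) (_ : Fintype F), Fintype.card F = p ∧ 3 < p ∧
        Nonempty (G ≃* Matrix.ProjectiveSpecialLinearGroup (Fin 2) F)) ∨
      (∃ (m : ℕ) (F : Type) (_ : Field F) (_ : Fintype F), Fintype.card F = 2 ^ m ∧
        p = 2 ^ m + 1 ∧ 3 < p ∧
        Nonempty (G ≃* Matrix.ProjectiveSpecialLinearGroup (Fin 2) F)) := by
  classical
  have hp : p.Prime := Fact.out
  obtain ⟨c, e, num⟩ := exists_num h hn
  rcases Nat.lt_or_ge n 2 with hn2 | hn2
  · have h1 : n = 1 := by have := num.npos; omega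
    subst h1
    obtain ⟨h3, hiso⟩ := of_n_eq_one h num
    exact Or.inl ⟨ZMod p, inferInstance, inferInstance, ZMod.card p, h3, hiso⟩
  refine Or.inr ?_
  obtain ⟨M, hM⟩ := exists_isPModular hp
  haveI := hM.2.1.isPrime
  obtain ⟨s, k, A, X, Y, XA, sg, H⟩ := exists_shape hM h num hE hn2
  obtain ⟨t, ht, he, hC, hconj⟩ := H.involution
  obtain ⟨h1, h2, h3⟩ := H.int_eqs
  have hA0 : A = 0 ∧ k = 1 := by
    have h4 := H.he
    have hk := H.kpos
    rw [he] at h4
    have : k * A * s = 0 := by omega
    rcases mul_eq_zero.1 this with h5 | h5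
    · rcases mul_eq_zero.1 h5 with h6 | h6 <;> omega
    · have := H.s2; omega
  obtain ⟨rfl, rfl⟩ := hA0
  have hc : c = 1 := by
    have h4 := num.cardC
    rw [H.num.cardC] at h4
    exact (Nat.eq_of_mul_eq_mul_left hp.pos h4).symm
  subst hc
  have hes := H.blk.hes
  have hns := H.hn
  rw [one_mul] at hns
  have hG : Nat.card G = p * (p - 1) * (p - 2) := by
    rw [num.cardG, mul_one, he]
    rw [he] at hes
    obtain ⟨n', rfl⟩ : ∃ n', n = n' := ⟨n, rfl⟩
    subst hes
    rw [← hns, show 2 * (n + 1) + 1 - 1 = 2 * (n + 1) by omega,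
      show 2 * (n + 1) + 1 - 2 = 2 * n + 1 by omega]
    ring
  set C := Subgroup.centralizer ({t} : Set G)
  have hinvol : ∀ x ∈ C, x ^ 2 = 1 := by
    intro x hx
    by_cases hx1 : x = 1
    · rw [hx1, one_pow]
    · obtain ⟨g, hg⟩ := isConj_iff.1 (hconj x hx hx1)
      rw [← hg, conj_pow, ← ht, pow_orderOf_eq_one, mul_one, mul_inv_cancel]
  have h2C : IsPGroup 2 C := fun x => ⟨1, Subtype.ext (hinvol x x.2)⟩
  obtain ⟨T, hT⟩ := h2C.exists_le_sylow
  haveI : Fact (Nat.Prime 2) := ⟨Nat.prime_two⟩
  obtain ⟨m, hm⟩ := IsPGroup.iff_card.1 h2C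
  rw [hC] at hm
  have hTC : (T : Subgroup G) = C := by
    refine (Subgroup.eq_of_le_of_card_ge hT ?_).symm
    rw [T.card_eq_multiplicity, hC, hG]
    have hodd : ¬ 2 ∣ p * (p - 2) := by
      intro h2'
      rw [he] at hes
      rcases Nat.prime_two.dvd_mul.1 h2' with h4 | h4 <;> omega
    rw [show p * (p - 1) * (p - 2) = (p - 1) * (p * (p - 2)) by ring, hm,
      Nat.factorization_mul (pow_ne_zero _ two_ne_zero)
        (fun h0 => hodd (by rw [h0]; exact dvd_zero 2)),
      Finsupp.add_apply, Nat.factorization_eq_zero_of_not_dvd hodd, Nat.Prime.factorization_pow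
        Nat.prime_two, Finsupp.single_eq_same, add_zero]
  have hp7 : 6 ≤ p - 1 := by
    rw [he] at hes
    omega
  have hC2 : ∀ u : G, orderOf u = 2 → IsConj t u := by
    intro u hu
    obtain ⟨Q, hQ⟩ := (IsPGroup.of_card (n := 1) (by rw [Nat.card_zpowers, hu, pow_one]) :
      IsPGroup 2 (Subgroup.zpowers u)).exists_le_sylow
    obtain ⟨a, ha⟩ := MulAction.exists_smul_eq G Q T
    have hmem : a * u * a⁻¹ ∈ C := by
      rw [← hTC, ← ha]; exact ⟨u, hQ (Subgroup.mem_zpowers u), rfl⟩
    have hne : a * u * a⁻¹ ≠ 1 := fun e1 => by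
      rw [mul_eq_left.1 (mul_inv_eq_one.1 e1), orderOf_one] at hu; omega
    exact (hconj _ hmem hne).trans (isConj_iff.2 ⟨a, rfl⟩).symm
  have hcard : Nat.card T = p - 1 := by
    rw [show Nat.card T = Nat.card (T : Subgroup G) from rfl, hTC, hC]
  refine (Cfsg.Agent.S1230.result T (fun hcyc => ?_) (fun hnn => ?_) (fun u hu => ?_)).elim
    fun F ⟨iF, iF', hF, hiso⟩ => ⟨m, F, iF, iF', by rw [hF, hcard, hm], by omega, by omega, hiso⟩
  · -- not cyclic
    rw [hTC] at hcyc
    haveI := hcyc
    haveI : Fintype C := Fintype.ofFinite _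
    have h4 := IsCyclic.card_pow_eq_one_le (α := C) (n := 2) two_pos
    rw [show (univ.filter fun a : C => a ^ 2 = 1) = univ by
      ext a; simp only [mem_filter, mem_univ, true_and, iff_true]; exact Subtype.ext (hinvol a a.2),
      card_univ, ← Nat.card_eq_fintype_card, hC] at h4
    omega
  · -- not normal
    have hbot := h.core _ hnn (fun hd => by
      rw [show Nat.card (T : Subgroup G) = p - 1 from hcard] at hd
      have := Nat.le_of_dvd (by omega) hd
      omega)
    have h4 : Nat.card (T : Subgroup G) = p - 1 := hcard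
    rw [hbot, Subgroup.card_bot] at h4
    omega
  · obtain ⟨a, ha⟩ := isConj_iff.1 (hC2 u hu)
    have hsq : ∀ x ∈ Subgroup.centralizer ({u} : Set G), x ^ 2 = 1 := by
      intro x hx
      have hmem : a⁻¹ * x * a ∈ C := by
        rw [Subgroup.mem_centralizer_singleton_iff]
        have hxu : x * u = u * x := Subgroup.mem_centralizer_singleton_iff.1 hx
        calc a⁻¹ * x * a * t = a⁻¹ * (x * (a * t * a⁻¹)) * a := by group
          _ = a⁻¹ * (x * u) * a := by rw [ha]
          _ = a⁻¹ * (u * x) * a := by rw [hxu]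
          _ = a⁻¹ * ((a * t * a⁻¹) * x) * a := by rw [ha]
          _ = t * (a⁻¹ * x * a) := by group
      have h4 := hinvol _ hmem
      calc x ^ 2 = a * (a⁻¹ * x * a) ^ 2 * a⁻¹ := by simp only [sq]; group
        _ = 1 := by rw [h4, mul_one, mul_inv_cancel]
    refine ⟨⟨⟨fun x y => Subtype.ext ?_⟩⟩, hsq⟩
    have hx := hsq _ x.2
    have hy := hsq _ y.2
    have hxy := hsq _ (mul_mem x.2 y.2)
    rw [sq] at hx hy hxy
    show (x : G) * y = y * x
    calc (x : G) * y = x * (x * y * (x * y)) * y := by rw [hxy, mul_one]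
      _ = x * x * (y * x) * (y * y) := by group
      _ = y * x := by rw [hx, hy, one_mul, mul_one]

end CfsgLib.BrauerPrime
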