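import Cfsg.Agent.BrauerPrime.Small
import Cfsg.Agent.GreenThree.Lattice
import Cfsg.Agent.BlocksB.InvariantBilinear
import Cfsg.Agent.Char.Values
import Cfsg.Agent.Char.AlgInt

/-!
# Two exceptional characters of odd degree

With exactly two exceptional characters and an inversion in `N(P)` the exceptional characters are
real, hence orthogonal, and reduction gives at most `p + 1` Sylow subgroups.
-/

set_option autoImplicit false
set_option linter.style.haveILetI false
set_option linter.unusedSectionVars false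

namespace CfsgLib.BrauerPrime

open Cfsg Finset CfsgLib.Block CfsgLib.Block.Chr CfsgLib.BrauerPairs
open CfsgLib.Cyclic (deg)
open scoped ComplexConjugate Matrix

universe u

variable {G : Type u} [Group G] [Fintype G] {p : ℕ} [Fact p.Prime] {S : Sylow p G}

/-- An involution in a complement inverts `P`. -/
theorem exists_inverse_conj (h : Setup G p S) {e n : ℕ} (num : Num S 1 e n) (he : 2 ∣ e) :
    ∃ z ∈ (S : Subgroup G), z ≠ 1 ∧ IsConj z z⁻¹ := by
  obtain ⟨E, hE⟩ := exists_comp h num
  haveI : Fact (Nat.Prime 2) := ⟨Nat.prime_two⟩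
  obtain ⟨⟨y, hy⟩, hyo⟩ := exists_prime_orderOf_dvd_card' (G := E) 2 (by rwa [hE.card])
  have hyo' : orderOf y = 2 := by rw [← hyo, ← Subgroup.orderOf_coe]
  have hy2 : y * y = 1 := by rw [← sq, ← hyo', pow_orderOf_eq_one]
  have hy1 : y ≠ 1 := fun e1 => by rw [e1, orderOf_one] at hyo'; omega
  obtain ⟨z, hz, hz1⟩ := exists_ne_one h
  refine ⟨z, hz, hz1, isConj_iff.2 ⟨y, ?_⟩⟩
  obtain ⟨g, hg⟩ := isConj_iff.1 (hE.fus y hy hy1 z hz)
  have h2 : z * y * (z * y) = 1 := by
    rw [← hg, show g * y * g⁻¹ * (g * y * g⁻¹) = g * (y * y) * g⁻¹ by group, hy2, mul_one,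
      mul_inv_cancel]
  rw [inv_eq_of_mul_eq_one_right hy2]
  exact eq_inv_of_mul_eq_one_right (by rw [← mul_assoc, ← mul_assoc]; rwa [mul_assoc (z * y)])

/-- The two exceptional characters are real. -/
theorem real_of_two {M : Ideal AlgInt} [M.IsPrime] (hM : IsPModular p M)
    (h : Setup G p S) {e n : ℕ} (num : Num S 1 e n) {X Y : Finset (IrrCharacter G)}
    {sg : IrrCharacter G → ℤ} (B : Blk M S e 2 X Y sg (-1)) (he : 2 ∣ e) {θ : IrrCharacter G}
    (hθ : θ ∈ Y) (hdeg : 2 * deg θ = (p : ℤ) + 1) (hp5 : 5 ≤ p) (g : G) :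
    conj ((θ : G → ℂ) g) = (θ : G → ℂ) g := by
  classical
  have hp : p.Prime := Fact.out
  let θ' : IrrCharacter G := ⟨fun g => conj ((θ : G → ℂ) g), CfsgLib.Char.IsIrrCharacter.conj θ.2⟩
  have hd : deg θ' = deg θ := by
    have h1 := apply_one_eq θ'
    rw [show (θ' : G → ℂ) 1 = conj ((θ : G → ℂ) 1) from rfl, apply_one_eq θ, map_intCast] at h1
    exact_mod_cast h1.symm
  have hmem : θ' ∈ principalBlock M G := by
    by_contra hout
    obtain ⟨k, hk⟩ := Int.natCast_dvd_natCast.2 (outside hM h num hout).1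
    change deg θ' = (p : ℤ) * k at hk
    rw [hd] at hk
    have h0 := deg_pos θ
    rcases lt_or_ge k 1 with hk1 | hk1
    · have : (p : ℤ) * k ≤ 0 := mul_nonpos_of_nonneg_of_nonpos (by positivity) (by omega)
      omega
    · have : (p : ℤ) ≤ (p : ℤ) * k := le_mul_of_one_le_right (by positivity) hk1
      omega
  have hY : θ' ∈ Y := by
    refine ((B.mem θ').1 hmem).resolve_left fun hX => ?_
    obtain ⟨k, hk⟩ := Int.modEq_iff_dvd.1 (B.congX θ' hX)
    rw [hd] at hk
    have hk' : 2 * sg θ' - ((p : ℤ) + 1) = (p : ℤ) * (2 * k) := by rw [← hdeg]; linarith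
    rcases lt_trichotomy k 0 with hk0 | hk0 | hk0
    · have : (p : ℤ) * (2 * k) ≤ (p : ℤ) * (-2) := by
        exact mul_le_mul_of_nonneg_left (by omega) (by positivity)
      rcases B.sign θ' hX with e' | e' <;> rw [e'] at hk' <;> omega
    · rw [hk0, mul_zero, mul_zero] at hk'
      rcases B.sign θ' hX with e' | e' <;> rw [e'] at hk' <;> omega
    · have : (p : ℤ) * 2 ≤ (p : ℤ) * (2 * k) := by
        exact mul_le_mul_of_nonneg_left (by omega) (by positivity)
      rcases B.sign θ' hX with e' | e' <;> rw [e'] at hk' <;> omega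
  by_contra hne
  have hne' : θ ≠ θ' := fun e1 => hne (congrFun (congrArg Subtype.val e1) g).symm
  have hYeq : Y = {θ, θ'} := (eq_of_subset_of_card_le (by
    intro x hx
    rcases mem_insert.1 hx with rfl | hx
    · exact hθ
    · rwa [mem_singleton.1 hx]) (by rw [B.cardY, card_pair hne'])).symm
  obtain ⟨z, hz, hz1, hconj⟩ := exists_inverse_conj h num he
  have h1 := B.sumY hM h hz hz1
  rw [hYeq, sum_pair hne', show (θ' : G → ℂ) z = conj ((θ : G → ℂ) z) from rfl,
    ← CfsgLib.Char.IsCharacter.apply_inv (isCharacter_irr θ),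
    ← CfsgLib.Char.IsClassFunction.apply_eq_of_isConj (isClassFunction_irr θ) hconj] at h1
  have h2 : IsIntegral ℤ ((θ : G → ℂ) z) := by
    exact CfsgLib.Char.IsCharacter.isIntegral (isCharacter_irr θ) z
  rw [show (θ : G → ℂ) z = (((1 : ℕ) : ℂ) / ((2 : ℕ) : ℂ)) by push_cast at h1 ⊢; linear_combination h1 / 2]
    at h2
  have := Nat.le_of_dvd one_pos (CfsgLib.Char.dvd_of_isIntegral_div two_ne_zero h2)
  omega

/-- The case of two exceptional characters of odd degree `(p + 1) / 2`. -/
theorem card_sylow_le_of_two [IsSimpleGroup G] {M : Ideal AlgInt} [M.IsPrime] (hM : IsPModular p M)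
    (h : Setup G p S) {e n : ℕ} (num : Num S 1 e n) {X Y : Finset (IrrCharacter G)}
    {sg : IrrCharacter G → ℤ} (B : Blk M S e 2 X Y sg (-1)) (he : 2 ∣ e) {θ : IrrCharacter G}
    (hθ : θ ∈ Y) {d : ℕ} (hd : charDegree (θ : G → ℂ) = d) (hdp : 2 * d = p + 1)
    (hodd : d % 2 = 1) (hp7 : 7 ≤ p) : Nat.card (Sylow p G) ≤ p + 1 := by
  classical
  have hp : p.Prime := Fact.out
  have hreal := real_of_two hM h num B he hθ (by
    show 2 * (charDegree (θ : G → ℂ) : ℤ) = _
    rw [hd]; exact_mod_cast hdp) (by omega)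
  obtain ⟨m, ρ, hρ, hρθ⟩ := θ.2
  haveI := hρ
  obtain rfl : m = d := by
    have h1 := (irr_one θ).1
    rw [← congrFun hρθ 1, Representation.char_one, Module.finrank_fin_fun, hd, Nat.cast_inj] at h1
    exact h1
  obtain ⟨A, A', hAA, -, hA0, hAinv, huniq⟩ := CfsgLib.Char.RealForm.exists_form ρ fun g => by
    rw [congrFun hρθ g]; exact Complex.conj_eq_iff_im.1 (hreal g)
  have hsym : Aᵀ = A := by
    obtain ⟨c, hc⟩ := huniq Aᵀ fun g => by
      conv_rhs => rw [← hAinv g]
      simp only [Matrix.transpose_mul, Matrix.transpose_transpose, mul_assoc]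
    have hc2 : (c * c) • A = (1 : ℂ) • A := by
      rw [one_smul, ← smul_smul, ← hc, ← Matrix.transpose_smul, ← hc, Matrix.transpose_transpose]
    rcases mul_self_eq_one_iff.1 (smul_left_injective ℂ hA0 hc2) with e1 | e1
    · rw [hc, e1, one_smul]
    · exfalso
      have h1 : A.det = -A.det := by
        conv_lhs => rw [← Matrix.det_transpose, hc, e1, Matrix.det_smul, Fintype.card_fin,
          (Nat.odd_iff.2 hodd).neg_one_pow, neg_one_mul]
      have h2 : A.det ≠ 0 := (A.isUnit_iff_isUnit_det.1 ⟨⟨A, A', hAA,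
        mul_eq_one_comm.1 hAA⟩, rfl⟩).ne_zero
      exact h2 (by linear_combination h1 / 2)
  obtain ⟨z, hz, hz1⟩ := exists_ne_one h
  have hzo := orderOf_eq h hz hz1
  have hθ1 : θ ≠ trivIrr G := fun e1 => B.disj _ B.triv (e1 ▸ hθ)
  refine CfsgLib.GreenThree.card_sylow_le_of_orthogonal hp7 hzo S (zpowers_eq h hz hz1).symm
    (fun K hK hzK k hk => by
      rcases hK.eq_bot_or_eq_top with h' | h'
      · rw [h', Subgroup.mem_bot] at hk; rw [hk]; exact Commute.one_right z
      · exact absurd (h' ▸ Subgroup.mem_top z) hzK)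
    (fun hpG => not_normal h ?_) (fun K hK => hK.eq_bot_or_eq_top) hdp hodd ρ ?_
    (Matrix.toBilin' A) (fun v w => ?_) (fun g v w => ?_) ?_
  · rw [show (S : Subgroup G) = ⊤ from (S.3 (hpG.to_subgroup ⊤) le_top).symm]
    infer_instance
  · refine (injective_iff_map_eq_one _).2 fun g hg => faithful_of_simple h hθ1 g ?_
    rw [← congrFun hρθ g, ← congrFun hρθ 1, Representation.character, Representation.character, hg,
      map_one ρ]
  · rw [Matrix.toBilin'_apply, Matrix.toBilin'_apply, sum_comm]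
    refine sum_congr rfl fun i _ => sum_congr rfl fun j _ => ?_
    rw [← Matrix.transpose_apply A i j, hsym]
    ring
  · have h1 := LinearMap.congr_fun (LinearMap.congr_fun (Matrix.toBilin'_comp A
      (LinearMap.toMatrix' (ρ g)) (LinearMap.toMatrix' (ρ g))) v) w
    rw [LinearMap.BilinForm.comp_apply, Matrix.toLin'_toMatrix', show (LinearMap.toMatrix' (ρ g))ᵀ * A * LinearMap.toMatrix' (ρ g) = A from hAinv g] at h1
    exact h1
  · intro h0
    exact hA0 (Matrix.toBilin'.injective (by rw [h0, map_zero]))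

end CfsgLib.BrauerPrime
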