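import Cfsg.Agent.BrauerPrime.Orthogonal
import Cfsg.Agent.SmallDegree.PrimeDegrees
import Cfsg.Agent.Classical.SmallPSL

/-!
# Simple groups of order `p q ^ b g₀` with a small cofactor
-/

set_option autoImplicit false
set_option linter.style.haveILetI false
set_option linter.unusedSectionVars false

namespace CfsgLib.BrauerPrime

open Cfsg Finset CfsgLib.Block CfsgLib.Block.Chr CfsgLib.BrauerPairs
open CfsgLib.Cyclic (deg)

universe u

variable {G : Type u} [Group G] [Fintype G] {p : ℕ} [Fact p.Prime] {S : Sylow p G}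

/-- A small exceptional degree forces `C(P) = P`. -/
theorem c_eq_one_of_small {M : Ideal AlgInt} [M.IsPrime] (hM : IsPModular p M) [IsSimpleGroup G]
    (h : Setup G p S) {c e n s : ℕ} (num : Num S c e n) {X Y : Finset (IrrCharacter G)}
    {sg : IrrCharacter G → ℤ} {ε : ℤ} (B : Blk M S e s X Y sg ε) {θ : IrrCharacter G} (hθ : θ ∈ Y)
    (hdeg : charDegree (θ : G → ℂ) < 2 * p) : c = 1 := by
  classical
  have hp : p.Prime := Fact.out
  by_contra hne
  obtain ⟨q, hq, hqc⟩ := Nat.exists_prime_and_dvd hne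
  haveI := Fact.mk hq
  have hqp : q ≠ p := fun e1 => by
    have h1 : p * p ∣ Nat.card (Subgroup.centralizer ((S : Subgroup G) : Set G)) :=
      num.cardC ▸ Nat.mul_dvd_mul_left p (e1 ▸ hqc)
    have h2 : p ^ 2 ∣ Nat.card (S : Subgroup G) := by
      rw [S.card_eq_multiplicity]
      refine pow_dvd_pow p ((hp.pow_dvd_iff_le_factorization Nat.card_pos.ne').1 ?_)
      rw [sq]; exact h1.trans (Subgroup.card_subgroup_dvd_card _)
    rw [show Nat.card (S : Subgroup G) = p from h.cardP] at h2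
    have h3 := Nat.le_of_dvd hp.pos h2
    nlinarith [hp.two_le]
  obtain ⟨⟨y, hy⟩, hyo⟩ := exists_prime_orderOf_dvd_card'
    (G := Subgroup.centralizer ((S : Subgroup G) : Set G)) q (num.cardC ▸ Dvd.dvd.mul_left hqc p)
  have hyo' : orderOf y = q := by rw [← hyo, ← Subgroup.orderOf_coe]
  have hy1 := CfsgLib.SmallFaithful.eq_one hM h.perfect S ((B.mem θ).2 (Or.inr hθ))
    (faithful_of_simple h fun e1 => B.disj _ B.triv (e1 ▸ hθ)) hdeg hy
    (fun hd => hqp ((Nat.prime_dvd_prime_iff_eq hp hq).1 (hyo' ▸ hd)).symm)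
  rw [hy1, orderOf_one] at hyo'
  exact hq.one_lt.ne hyo'

/-- The numbers of a group with `p + 1` Sylow subgroups and trivial centralizer. -/
theorem two_e_eq (h : Setup G p S) {e : ℕ} (num : Num S 1 e 1) :
    2 * e + 1 = p ∧ Nonempty (G ≃* Matrix.ProjectiveSpecialLinearGroup (Fin 2) (ZMod p)) := by
  have hp : p.Prime := Fact.out
  obtain ⟨h3, ⟨iso⟩⟩ := of_n_eq_one h num
  refine ⟨?_, ⟨iso⟩⟩
  have hc := CfsgLib.Linear.Small.card_psl_two (ZMod.card p)
  rw [← Nat.card_congr iso.toEquiv, num.cardG] at hc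
  obtain ⟨k, hk⟩ := hp.odd_of_ne_two (by omega)
  obtain ⟨r, hr⟩ : ∃ r, p = r + 1 := ⟨2 * k, hk⟩
  rw [show Nat.gcd 2 (p - 1) = 2 from Nat.gcd_eq_left ⟨k, by omega⟩, show p - 1 = r by omega, hr,
    show (r + 1) ^ 2 - 1 = r * (r + 2) from Nat.sub_eq_of_eq_add (by ring),
    show (r + 1) ^ 2 - (r + 1) = (r + 1) * r from Nat.sub_eq_of_eq_add (by ring)] at hc
  have h2 : (r * (r + 1) * (r + 2)) * (2 * e) = (r * (r + 1) * (r + 2)) * r := by linarith
  have := Nat.eq_of_mul_eq_mul_left (Nat.mul_pos (Nat.mul_pos (by omega) (by omega)) (by omega)) h2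
  omega

/-- **Groups of order `p q ^ b g₀`.** -/
theorem qpower [IsSimpleGroup G] (h : Setup G p S) {q b g₀ : ℕ} (hq : q.Prime)
    (hpq : p ≠ q) (hG : Nat.card G = p * q ^ b * g₀) (hg : g₀ < p - 1) :
    (∃ m : ℕ, (p = 2 ^ m + 1 ∨ p = 2 ^ m - 1) ∧
      Nonempty (G ≃* Matrix.ProjectiveSpecialLinearGroup (Fin 2) (ZMod p))) ∨
      (Nat.card G < p ^ 3 ∧ g₀ = p - 2 ∧ q = 2) := by
  classical
  have hp : p.Prime := Fact.out
  haveI : Fact q.Prime := ⟨hq⟩
  obtain ⟨n, hn⟩ : ∃ n, Nat.card (Sylow p G) = 1 + n * p := by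
    refine ⟨Nat.card (Sylow p G) / p, ?_⟩
    have h1 := card_sylow_modEq_one p G
    rw [Nat.ModEq, Nat.mod_eq_of_lt hp.one_lt] at h1
    have h2 := Nat.mod_add_div' (Nat.card (Sylow p G)) p
    omega
  obtain ⟨c, e, num⟩ := exists_num h hn
  obtain ⟨M, hM⟩ := exists_isPModular hp
  haveI := hM.2.1.isPrime
  obtain ⟨s, X, Y, sg, ε, B⟩ := exists_blk hM h num
  have hce : c * e * (1 + n * p) = q ^ b * g₀ := by
    refine Nat.eq_of_mul_eq_mul_left hp.pos ?_
    rw [← mul_assoc p (q ^ b), ← hG, num.cardG]; ring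
  have hg0 : 0 < g₀ := Nat.pos_of_ne_zero fun h0 => by
    rw [h0, mul_zero] at hG; exact Nat.card_pos.ne' hG
  have hdvdqg : e * (1 + n * p) ∣ q ^ b * g₀ := ⟨c, by rw [← hce]; ring⟩
  have hes := B.hes
  have hs0 := B.spos
  have he2 := num.epos
  have hep : e ≤ p - 1 := B.e_le
  -- the degrees in `X`
  have hXfree : ∀ χ ∈ X, ¬ q ∣ charDegree (χ : G → ℂ) → χ = trivIrr G := by
    intro χ hχ hnd
    have h1 : charDegree (χ : G → ℂ) ∣ g₀ :=
      (Nat.Coprime.pow_right b ((hq.coprime_iff_not_dvd.2 hnd).symm)).dvd_of_dvd_mul_left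
        ((B.dvdX h num hχ).trans hdvdqg)
    have h2 := Nat.le_of_dvd hg0 h1
    have h3 := (irr_one χ).2
    refine eq_trivIrr h ?_
    obtain ⟨k, hk⟩ := Int.modEq_iff_dvd.1 (B.congX χ hχ)
    have hd : deg χ = (charDegree (χ : G → ℂ) : ℤ) := rfl
    have hlt : |sg χ - deg χ| < (p : ℤ) := by
      rw [abs_lt]
      rcases B.sign χ hχ with e' | e' <;> rw [e'] <;> omega
    rw [hk, abs_mul, Nat.abs_cast] at hlt
    have hk0 : k = 0 := by
      by_contra hk0
      exact absurd hlt (not_lt.2 (le_mul_of_one_le_right (by positivity) (Int.one_le_abs hk0)))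
    rw [hk0, mul_zero] at hk
    rcases B.sign χ hχ with e' | e' <;> rw [e'] at hk <;> omega
  obtain ⟨θ, hθ⟩ := card_pos.1 (B.cardY ▸ hs0 : 0 < Y.card)
  obtain ⟨d, hd⟩ : ∃ d, charDegree (θ : G → ℂ) = d := ⟨_, rfl⟩
  have hdθ : deg θ = (d : ℤ) := congrArg Nat.cast hd
  have hd0 : 0 < d := hd ▸ (irr_one θ).2
  have hd1 : d ≠ 1 := fun e1 => B.disj _ B.triv (eq_trivIrr h (θ := θ) (by rw [hdθ, e1]; rfl) ▸ hθ)
  have hsum : ε * (d : ℤ) = 1 + ∑ χ ∈ X.erase (trivIrr G), sg χ * deg χ := by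
    rw [← hdθ, B.degY hθ, ← add_sum_erase X _ B.triv, B.sgTriv, deg_trivIrr, mul_one]
  have hqX : ∀ χ ∈ X.erase (trivIrr G), q ∣ charDegree (χ : G → ℂ) := fun χ hχ => by
    by_contra hnd
    exact ne_of_mem_erase hχ (hXfree χ (mem_of_mem_erase hχ) hnd)
  have hqd : (q : ℤ) ∣ ε * (d : ℤ) - 1 := by
    rw [hsum, add_sub_cancel_left]
    exact Finset.dvd_sum fun χ hχ => Dvd.dvd.mul_left (Int.natCast_dvd_natCast.2 (hqX χ hχ)) _
  have hqnd : ¬ q ∣ d := fun hqd' => by
    have h1 : (q : ℤ) ∣ ε * (d : ℤ) := Dvd.dvd.mul_left (Int.natCast_dvd_natCast.2 hqd') _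
    have h2 := Int.dvd_sub h1 hqd
    rw [sub_sub_cancel] at h2
    exact hq.not_dvd_one (by exact_mod_cast h2)
  have hdg : d ∣ g₀ :=
    (Nat.Coprime.pow_right b ((hq.coprime_iff_not_dvd.2 hqnd).symm)).dvd_of_dvd_mul_left
      (hd ▸ (B.dvdY hM h num hθ).trans hdvdqg)
  have hdp : d < p - 1 := lt_of_le_of_lt (Nat.le_of_dvd hg0 hdg) hg
  have hde : (ε = 1 ∧ d = e) ∨ (ε = -1 ∧ d + e = p) := by
    obtain ⟨k, hk⟩ := Int.modEq_iff_dvd.1 (B.congY θ hθ)
    rw [hdθ] at hk
    rcases B.signY with e' | e' <;> rw [e'] at hk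
    · refine Or.inl ⟨e', ?_⟩
      rcases lt_trichotomy k 0 with hk0 | hk0 | hk0
      · have : (p : ℤ) * k ≤ (p : ℤ) * (-1) := mul_le_mul_of_nonneg_left (by omega) (by positivity)
        omega
      · rw [hk0, mul_zero] at hk; omega
      · have : (p : ℤ) * 1 ≤ (p : ℤ) * k := mul_le_mul_of_nonneg_left (by omega) (by positivity)
        omega
    · refine Or.inr ⟨e', ?_⟩
      rcases lt_trichotomy k (-1) with hk0 | hk0 | hk0
      · have : (p : ℤ) * k ≤ (p : ℤ) * (-2) := mul_le_mul_of_nonneg_left (by omega) (by positivity)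
        omega
      · rw [hk0] at hk; omega
      · have : 0 ≤ (p : ℤ) * k := mul_nonneg (by positivity) (by omega)
        omega
  have hs2 : 2 ≤ s := by
    by_contra hlt
    obtain rfl : s = 1 := by omega
    rw [mul_one] at hes
    rcases hde with ⟨-, h1⟩ | ⟨-, h1⟩ <;> omega
  have h2e : 2 * e + 1 ≤ p := by
    have := Nat.mul_le_mul_left e hs2
    omega
  have hc : c = 1 := c_eq_one_of_small hM h num B hθ (by omega)
  subst hc
  rw [one_mul] at hce
  rcases hde with ⟨hε, hdeq⟩ | ⟨hε, hdeq⟩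
  · -- `ε = 1`
    subst hε
    refine Or.inl ?_
    have hp6 : p ≠ 6 := fun e1 => by rw [e1] at hp; exact absurd hp (by norm_num)
    have hp7 : 7 ≤ p := by
      by_contra hlt
      have hde2 : d = 2 := by omega
      refine CfsgLib.PrimeDegrees.no_degree_two (G := G) (χ := (θ : G → ℂ)) (fun hcomm => ?_)
        h.perfect θ.2 ?_
      · refine not_normal h ⟨fun a ha g => ?_⟩
        rwa [hcomm g a, mul_inv_cancel_right]
      · rw [(irr_one θ).1, hd, hde2, Nat.cast_ofNat]
    have hn1 := card_sylow_le_of_character h hp7 (isCharacter_irr θ)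
      (faithful_of_simple h fun e1 => B.disj _ B.triv (e1 ▸ hθ)) (d := d)
      (by rw [(irr_one θ).1, hd]) (by omega)
    rw [hn] at hn1
    obtain rfl : n = 1 := by
      refine le_antisymm ?_ num.npos
      by_contra hlt
      have := Nat.mul_le_mul_right p (not_le.1 hlt)
      omega
    obtain ⟨h2, hiso⟩ := two_e_eq h num
    obtain ⟨k, hk⟩ := hdg
    obtain rfl : k = 1 := by
      rw [hdeq] at hk
      rcases k with _ | _ | k
      · omega
      · rfl
      · have : e * 2 ≤ e * (k + 1 + 1) := Nat.mul_le_mul_left e (by omega)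
        omega
    rw [mul_one, hdeq] at hk
    rw [hk, mul_comm, one_mul] at hce
    have h3 := Nat.eq_of_mul_eq_mul_right (by omega : 0 < e) hce
    have hb : b ≠ 0 := fun hb0 => by rw [hb0, pow_zero] at h3; omega
    have hq2 : q = 2 := by
      have h4 : 2 ∣ q ^ b := ⟨e + 1, by omega⟩
      exact ((Nat.prime_dvd_prime_iff_eq Nat.prime_two hq).1 (Nat.prime_two.dvd_of_dvd_pow h4)).symm
    exact ⟨b, Or.inr (by rw [← hq2]; omega), hiso⟩
  · -- `ε = -1`
    subst hε
    have hg0d : g₀ = d := by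
      obtain ⟨k, hk⟩ := hdg
      rcases k with _ | _ | k
      · omega
      · rw [hk, zero_add, mul_one]
      · have : d * 2 ≤ d * (k + 1 + 1) := Nat.mul_le_mul_left d (by omega)
        omega
    subst hg0d
    have hcop : Nat.Coprime e g₀ := by
      refine Nat.coprime_of_dvd fun r hr hre hrd => ?_
      have h1 : r ∣ p := hdeq ▸ Nat.dvd_add hrd hre
      have h2 := (Nat.prime_dvd_prime_iff_eq hr hp).1 h1
      have h3 := Nat.le_of_dvd (by omega) hre
      omega
    have heq : e ∣ q ^ b := hcop.dvd_of_dvd_mul_right ⟨1 + n * p, hce.symm⟩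
    obtain ⟨k, -, hk⟩ := (Nat.dvd_prime_pow hq).1 heq
    have hk0 : k ≠ 0 := fun h0 => by rw [h0, pow_zero] at hk; omega
    have hqe : q ∣ e := hk ▸ dvd_pow_self q hk0
    have hq2 : q = 2 := by
      have h1 : (q : ℤ) ∣ (p : ℤ) - 1 := ⟨((e / q * s : ℕ) : ℤ), by
        have h1' : q * (e / q * s) + 1 = p := by
          rw [← mul_assoc, Nat.mul_div_cancel' hqe, hes]
        rw [← h1']; push_cast; ring⟩
      have h2 : (q : ℤ) ∣ (e : ℤ) := Int.natCast_dvd_natCast.2 hqe
      have h3 : (q : ℤ) ∣ 2 := by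
        have h4 : (2 : ℤ) = -((-1) * (g₀ : ℤ) - 1) + (e : ℤ) - ((p : ℤ) - 1) := by
          rw [show (p : ℤ) = g₀ + e by exact_mod_cast hdeq.symm]; ring
        rw [h4]
        exact Int.dvd_sub (dvd_add hqd.neg_right h2) h1
      exact (Nat.prime_dvd_prime_iff_eq hq Nat.prime_two).1 (by exact_mod_cast h3)
    subst hq2
    by_cases he : e = 2
    · refine Or.inr ⟨?_, by omega, rfl⟩
      subst he
      exact card_lt_of_two hM h num B (by omega) (fun θ' hθ' => by
        rw [B.deg_agree hθ' hθ, hdθ]; omega) (by rw [hG, show g₀ = p - 2 by omega])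
    have h4e : 4 ∣ e := by
      rcases k with _ | _ | k
      · exact absurd rfl hk0
      · rw [hk] at he; exact absurd rfl he
      · rw [hk, pow_succ, pow_succ, mul_assoc]; exact dvd_mul_left _ _
    -- some degree is not divisible by four
    obtain ⟨χ, hχ, hχ4⟩ : ∃ χ ∈ X.erase (trivIrr G), ¬ 4 ∣ charDegree (χ : G → ℂ) := by
      by_contra hall
      push Not at hall
      have h1 : (4 : ℤ) ∣ -(g₀ : ℤ) - 1 := by
        rw [show -(g₀ : ℤ) - 1 = ∑ χ ∈ X.erase (trivIrr G), sg χ * deg χ by linarith]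
        exact Finset.dvd_sum fun χ hχ =>
          Dvd.dvd.mul_left (Int.natCast_dvd_natCast.2 (hall χ hχ)) _
      have h5 : 4 ∣ p - 1 := h4e.trans ⟨s, by omega⟩
      obtain ⟨u, hu⟩ := h1
      obtain ⟨v, hv⟩ := h4e
      omega
    obtain ⟨f, hf⟩ := hqX χ hχ
    have hfd : f ∣ g₀ := by
      refine (Nat.Coprime.pow_right b ?_).dvd_of_dvd_mul_left
        ((Dvd.intro_left _ hf.symm).trans ((B.dvdX h num (mem_of_mem_erase hχ)).trans hdvdqg))
      refine (Nat.prime_two.coprime_iff_not_dvd.2 fun h2f => hχ4 ?_).symm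
      obtain ⟨f', rfl⟩ := h2f
      exact ⟨f', by rw [hf]; ring⟩
    have hf0 : 0 < f := Nat.pos_of_ne_zero fun h0 => by
      have := (irr_one χ).2; rw [hf, h0] at this; omega
    have hfle := Nat.le_of_dvd hd0 hfd
    -- `2 f ≡ ± 1`
    have h2f : 2 * f = p + 1 ∨ 2 * f + 1 = p := by
      obtain ⟨w, hw⟩ := Int.modEq_iff_dvd.1 (B.congX χ (mem_of_mem_erase hχ))
      have hdχ : deg χ = ((2 * f : ℕ) : ℤ) := congrArg Nat.cast hf
      rw [hdχ] at hw
      rcases lt_trichotomy w (-1) with hw0 | hw0 | hw0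
      · have : (p : ℤ) * w ≤ (p : ℤ) * (-2) := mul_le_mul_of_nonneg_left (by omega) (by positivity)
        rcases B.sign χ (mem_of_mem_erase hχ) with e' | e' <;> rw [e'] at hw <;> omega
      · rw [hw0] at hw
        rcases B.sign χ (mem_of_mem_erase hχ) with e' | e' <;> rw [e'] at hw <;> omega
      · have : 0 ≤ (p : ℤ) * w := mul_nonneg (by positivity) (by omega)
        rcases B.sign χ (mem_of_mem_erase hχ) with e' | e' <;> rw [e'] at hw <;> omega
    obtain rfl : f = g₀ := by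
      obtain ⟨v, hv⟩ := hfd
      rcases v with _ | _ | v
      · omega
      · rw [hv, zero_add, mul_one]
      · exfalso
        have h1 : f * 2 ≤ f * (v + 1 + 1) := Nat.mul_le_mul_left f (by omega)
        omega
    have hs : s = 2 := by
      refine le_antisymm ?_ hs2
      by_contra hlt
      have := Nat.mul_le_mul_left e (not_le.1 hlt)
      omega
    subst hs
    have hodd : f % 2 = 1 := by omega
    have hn1 := card_sylow_le_of_two hM h num B ((show 2 ∣ 4 by norm_num).trans h4e) hθ hd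
      (by omega) hodd (by have := Nat.le_of_dvd (by omega) h4e; omega)
    rw [hn] at hn1
    obtain rfl : n = 1 := by
      refine le_antisymm ?_ num.npos
      by_contra hlt
      have := Nat.mul_le_mul_right p (not_le.1 hlt)
      omega
    refine Or.inl ⟨k + 1, Or.inl ?_, (two_e_eq h num).2⟩
    rw [← hes, pow_succ, ← hk]

end CfsgLib.BrauerPrime
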