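import Cfsg.Agent.BrauerPrime.Main
import Cfsg.Agent.Solvable.Fitting
import Cfsg.Agent.PrimeGraph.SL2Char2
import Cfsg.Agent.Classical.SmallPSL

/-!
# Reducing a perfect group to the setup of Brauer's dichotomy
-/

set_option autoImplicit false
set_option linter.style.haveILetI false
set_option linter.unusedSectionVars false

namespace CfsgLib.BrauerPrime

open Cfsg Subgroup Pointwise

universe u

variable {G : Type u} [Group G] [Finite G] {p : ℕ} [Fact p.Prime]

theorem not_dvd_pPrimeCore : ¬ p ∣ Nat.card (Cfsg.pPrimeCore p G) :=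
  (Nat.Prime.coprime_iff_not_dvd Fact.out).1 (CfsgLib.Solvable.coprime_card_pPrimeCore p).symm

theorem eq_pPrimeCore_le {K : Subgroup G} (hK : K.Normal) (hd : ¬ p ∣ Nat.card K) :
    K ≤ Cfsg.pPrimeCore p G :=
  CfsgLib.Solvable.le_pPrimeCore p hK ((Nat.Prime.coprime_iff_not_dvd Fact.out).2 hd).symm

/-- `SL(2, F)` and `PSL(2, F)` agree in characteristic two. -/
theorem sl_iso {H : Type*} [Group H] {F : Type} [Field F] [Fintype F] {m : ℕ}
    (hF : Fintype.card F = 2 ^ m) (e : H ≃* Matrix.ProjectiveSpecialLinearGroup (Fin 2) F) :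
    Nonempty (H ≃* Matrix.SpecialLinearGroup (Fin 2) F) := by
  haveI : CharP F 2 := by
    haveI : Fact (Nat.Prime 2) := ⟨Nat.prime_two⟩
    exact charP_of_card_eq_prime_pow hF
  exact ⟨e.trans CfsgLib.SL2Char2.slEquivPSL.symm⟩

/-- The number of Sylow subgroups of a quotient by a normal subgroup `O`. -/
theorem sylow_quotient (O : Subgroup G) [O.Normal] (P : Sylow p G) :
    ∃ j : ℕ, Nat.card (Sylow p G) = Nat.card (Sylow p (G ⧸ O)) * (1 + j * p) ∧
      (j = 0 → O ≤ normalizer ((P : Subgroup G) : Set G)) := by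
  classical
  set m : Sylow p G → Sylow p (G ⧸ O) :=
    Sylow.mapSurjective (QuotientGroup.mk'_surjective O) with hm
  have heq : ∀ (g : G) (Q : Sylow p G), m (g • Q) = QuotientGroup.mk' O g • m Q := by
    intro g Q
    refine Sylow.ext ?_
    show Subgroup.map (QuotientGroup.mk' O) (MulAut.conj g • (Q : Subgroup G)) =
      MulAut.conj (QuotientGroup.mk' O g) • Subgroup.map (QuotientGroup.mk' O) (Q : Subgroup G)
    ext x
    constructor
    · rintro ⟨_, ⟨y, hy, rfl⟩, rfl⟩
      exact ⟨_, ⟨y, hy, rfl⟩, by simp⟩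
    · rintro ⟨_, ⟨y, hy, rfl⟩, rfl⟩
      exact ⟨_, ⟨y, hy, rfl⟩, by simp⟩
  set k := Nat.card {Q : Sylow p G // m Q = m P} with hk
  have hfib : ∀ a, Nat.card {Q : Sylow p G // m Q = a} = k := by
    intro a
    obtain ⟨g₀, hg₀⟩ := MulAction.exists_smul_eq (G ⧸ O) (m P) a
    obtain ⟨g, rfl⟩ := QuotientGroup.mk'_surjective O g₀
    refine (Nat.card_congr (Equiv.subtypeEquiv (MulAction.toPerm g) fun Q => ?_)).symm
    show m Q = m P ↔ m (g • Q) = a
    rw [heq, ← hg₀, smul_left_cancel_iff]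
  have hcard : Nat.card (Sylow p G) = Nat.card (Sylow p (G ⧸ O)) * k := by
    haveI : Fintype (Sylow p (G ⧸ O)) := Fintype.ofFinite _
    rw [← Nat.card_congr (Equiv.sigmaFiberEquiv m), Nat.card_sigma,
      Finset.sum_congr rfl fun a _ => hfib a, Finset.sum_const, Finset.card_univ,
      Nat.card_eq_fintype_card, smul_eq_mul]
  have hk1 : k ≡ 1 [MOD p] := by
    have h1 : Nat.card (Sylow p (G ⧸ O)) * k ≡ 1 [MOD p] := hcard ▸ card_sylow_modEq_one p G
    have h2 : Nat.card (Sylow p (G ⧸ O)) * k ≡ k [MOD p] := by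
      simpa using (card_sylow_modEq_one p (G ⧸ O)).mul_right k
    exact h2.symm.trans h1
  haveI hne : Nonempty {Q : Sylow p G // m Q = m P} := ⟨⟨P, rfl⟩⟩
  have hk0 : 1 ≤ k := Nat.card_pos
  obtain ⟨j, hj⟩ : p ∣ k - 1 := (Nat.modEq_iff_dvd' hk0).1 hk1.symm
  refine ⟨j, ?_, fun h0 o ho => ?_⟩
  · rw [hcard]
    congr 1
    rw [mul_comm j]
    omega
  · have hk' : k = 1 := by rw [h0, mul_zero] at hj; omega
    haveI := (Nat.card_eq_one_iff_unique.1 hk').1
    refine Sylow.smul_eq_iff_mem_normalizer.1 (congrArg Subtype.val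
      (Subsingleton.elim (⟨o • P, ?_⟩ : {Q : Sylow p G // m Q = m P}) ⟨P, rfl⟩))
    rw [heq, show QuotientGroup.mk' O o = 1 from (QuotientGroup.eq_one_iff o).2 ho, one_smul]

/-- The quotient of a perfect group by its `p'`-core satisfies the setup. -/
theorem setup_quotient [Fintype (G ⧸ Cfsg.pPrimeCore p G)] (hperf : commutator G = ⊤)
    (P : Sylow p G) (hP : Nat.card P = p) :
    Setup (G ⧸ Cfsg.pPrimeCore p G) p
      (P.mapSurjective (QuotientGroup.mk'_surjective (Cfsg.pPrimeCore p G))) := by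
  refine ⟨?_, ?_, fun K hK hd => ?_⟩
  · rw [Sylow.card_eq_multiplicity]
    rw [P.card_eq_multiplicity, Subgroup.card_eq_card_quotient_mul_card_subgroup (Cfsg.pPrimeCore p G),
      Nat.factorization_mul Nat.card_pos.ne' Nat.card_pos.ne', Finsupp.add_apply,
      Nat.factorization_eq_zero_of_not_dvd not_dvd_pPrimeCore, add_zero] at hP
    exact hP
  · rw [commutator_def, ← Subgroup.map_top_of_surjective _ (QuotientGroup.mk'_surjective _),
      ← Subgroup.map_commutator, ← commutator_def, hperf]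
  · rw [eq_bot_iff, ← CfsgLib.Fitting.pPrimeCore_quotient_eq_bot (G := G) p]
    exact eq_pPrimeCore_le hK hd

/-- The invariants of the quotient of a perfect group with a Sylow subgroup of order `p`. -/
theorem quotient_numbers (hperf : commutator G = ⊤) (P : Sylow p G) (hP : Nat.card P = p) :
    ∃ n j : ℕ, 1 ≤ n ∧ Nat.card (Sylow p (G ⧸ Cfsg.pPrimeCore p G)) = 1 + n * p ∧
      Nat.card (Sylow p G) = (1 + n * p) * (1 + j * p) ∧
      (j = 0 → Cfsg.pPrimeCore p G ≤ normalizer ((P : Subgroup G) : Set G)) ∧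
      2 * p * (1 + n * p) ≤ Nat.card (G ⧸ Cfsg.pPrimeCore p G) := by
  haveI := Fintype.ofFinite (G ⧸ Cfsg.pPrimeCore p G)
  have hs := setup_quotient hperf P hP
  obtain ⟨n, hn⟩ : ∃ n, Nat.card (Sylow p (G ⧸ Cfsg.pPrimeCore p G)) = 1 + n * p := by
    have h1 := card_sylow_modEq_one p (G ⧸ Cfsg.pPrimeCore p G)
    have h2 := Nat.card_pos (α := Sylow p (G ⧸ Cfsg.pPrimeCore p G))
    obtain ⟨n, hn⟩ := (Nat.modEq_iff_dvd' h2).1 h1.symm
    exact ⟨n, by rw [mul_comm]; omega⟩
  obtain ⟨c, e, num⟩ := exists_num hs hn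
  obtain ⟨j, hj, hj0⟩ := sylow_quotient (Cfsg.pPrimeCore p G) P
  refine ⟨n, j, num.npos, hn, by rw [hj, hn], hj0, ?_⟩
  rw [num.cardG]
  refine Nat.mul_le_mul_right _ ?_
  calc 2 * p = p * 1 * 2 := by ring
    _ ≤ p * c * e := Nat.mul_le_mul (Nat.mul_le_mul_left _ num.cpos) num.epos

/-- Brauer's dichotomy for the quotient of a perfect group by its `p'`-core. -/
theorem classify_quotient (hperf : commutator G = ⊤) (P : Sylow p G) (hP : Nat.card P = p) {n : ℕ}
    (hn : Nat.card (Sylow p (G ⧸ Cfsg.pPrimeCore p G)) = 1 + n * p) (hE : ¬ Eqn p n) :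
    (∃ (F : Type) (_ : Field F) (_ : Fintype F), Fintype.card F = p ∧ 3 < p ∧
        Nonempty (G ⧸ Cfsg.pPrimeCore p G ≃* Matrix.ProjectiveSpecialLinearGroup (Fin 2) F)) ∨
      (∃ (m : ℕ) (F : Type) (_ : Field F) (_ : Fintype F), Fintype.card F = 2 ^ m ∧
        p = 2 ^ m + 1 ∧ 3 < p ∧
        Nonempty (G ⧸ Cfsg.pPrimeCore p G ≃* Matrix.ProjectiveSpecialLinearGroup (Fin 2) F)) := by
  haveI := Fintype.ofFinite (G ⧸ Cfsg.pPrimeCore p G)
  exact classify (setup_quotient hperf P hP) hn hE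

theorem two_mul_lt_of_mul_lt {n : ℕ} (h : 2 * p * (1 + n * p) < p ^ 3) : 2 * n < p + 3 := by
  have hp := (Fact.out : p.Prime).pos
  by_contra hle
  rw [not_lt] at hle
  nlinarith [Nat.mul_le_mul_right (p * p) hle, Nat.mul_pos hp hp]

theorem not_eqn_of_mul_lt {n : ℕ} (h : 2 * p * (1 + n * p) < p ^ 3) : ¬ Eqn p n :=
  not_eqn_of_lt (two_mul_lt_of_mul_lt h)

/-- A Sylow subgroup for a prime whose cube exceeds the group order has prime order,
unless it is normal. -/
theorem card_eq_of_big (hdvd : p ∣ Nat.card G) (hbig : Nat.card G < p ^ 3) (P : Sylow p G)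
    (hP : ¬ (P : Subgroup G).Normal) : Nat.card P = p := by
  have hp : p.Prime := Fact.out
  obtain ⟨k, hk⟩ := IsPGroup.iff_card.1 P.2
  have hk1 : 1 ≤ k := Nat.pos_of_ne_zero fun h0 => by
    refine P.not_dvd_index ?_
    have h := Subgroup.card_mul_index (P : Subgroup G)
    rw [hk, h0, pow_zero, one_mul] at h
    rwa [h]
  rcases hk1.lt_or_eq with h2 | h2
  · exfalso
    refine hP ?_
    have h := Subgroup.card_mul_index (P : Subgroup G)
    rw [hk] at h
    have hidx : (P : Subgroup G).index < p := by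
      by_contra hle
      rw [not_lt] at hle
      have h3 : p ^ 2 * p ≤ p ^ k * (P : Subgroup G).index :=
        Nat.mul_le_mul (Nat.pow_le_pow_right hp.pos h2) hle
      rw [h, ← pow_succ, show 2 + 1 = 3 from rfl] at h3
      omega
    have hlt : Nat.card (Sylow p G) < p := by
      refine lt_of_le_of_lt (Nat.le_of_dvd (Nat.pos_of_ne_zero index_ne_zero_of_finite) ?_) hidx
      rw [P.card_eq_index_normalizer]
      exact Subgroup.index_dvd_of_le le_normalizer
    have h1 : Nat.card (Sylow p G) = 1 := by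
      have h4 := card_sylow_modEq_one p G
      rwa [Nat.ModEq, Nat.mod_eq_of_lt hlt, Nat.mod_eq_of_lt hp.one_lt] at h4
    haveI : Subsingleton (Sylow p G) := (Nat.card_eq_one_iff_unique.1 h1).1
    exact Sylow.normal_of_subsingleton P
  · rw [hk, ← h2, pow_one]

end CfsgLib.BrauerPrime
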