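import Cfsg.Agent.PClosed.SimplePrimeBound
import Cfsg.Agent.Blocks.TraceFormula
import Cfsg.Agent.Blocks.Regular
import Cfsg.Agent.BlocksB.SmallFaithful

/-!
# Perfect groups with a Sylow subgroup of prime order: the setup
-/

set_option autoImplicit false
set_option linter.style.haveILetI false
set_option linter.unusedSectionVars false

namespace CfsgLib.BrauerPrime

open Cfsg Finset CfsgLib.Block CfsgLib.Block.Chr CfsgLib.BrauerPairs
open CfsgLib.Cyclic (deg)

universe u

variable {G : Type u} [Group G] [Fintype G] {p : ℕ} [Fact p.Prime]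

/-- A perfect group with a Sylow subgroup of order `p` and no normal subgroup of order prime to
`p`. -/
structure Setup (G : Type u) [Group G] [Fintype G] (p : ℕ) [Fact p.Prime] (S : Sylow p G) :
    Prop where
  cardP : Nat.card S = p
  perfect : commutator G = ⊤
  core : ∀ K : Subgroup G, K.Normal → ¬ p ∣ Nat.card K → K = ⊥

variable {S : Sylow p G}

local notation "P" => (S : Subgroup G)
local notation "CP" => Subgroup.centralizer ((S : Subgroup G) : Set G)
local notation "NP" => Subgroup.normalizer ((S : Subgroup G) : Set G)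

theorem le_centralizer (h : Setup G p S) : P ≤ CP := fun x hx => by
  haveI : IsCyclic P := isCyclic_of_prime_card h.cardP
  exact Subgroup.mem_centralizer_iff.2 fun y hy =>
    congrArg Subtype.val (mul_comm' (⟨y, hy⟩ : P) ⟨x, hx⟩)

theorem zpowers_eq (h : Setup G p S) {z : G} (hz : z ∈ P) (hz1 : z ≠ 1) :
    Subgroup.zpowers z = P := by
  refine Subgroup.eq_of_le_of_card_ge (Subgroup.zpowers_le.2 hz) ?_
  have hd : orderOf z ∣ p := h.cardP ▸ Subgroup.orderOf_dvd_natCard P hz
  rw [Nat.card_zpowers, show Nat.card (P) = p from h.cardP]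
  rcases (Nat.dvd_prime (Fact.out : p.Prime)).1 hd with h1 | h1
  · exact absurd (orderOf_eq_one_iff.1 h1) hz1
  · exact h1.ge

theorem orderOf_eq (h : Setup G p S) {z : G} (hz : z ∈ P) (hz1 : z ≠ 1) : orderOf z = p := by
  rw [← Nat.card_zpowers, zpowers_eq h hz hz1]; exact h.cardP

theorem centralizer_singleton (h : Setup G p S) {z : G} (hz : z ∈ P) (hz1 : z ≠ 1) :
    Subgroup.centralizer ({z} : Set G) = CP := by
  refine le_antisymm (fun c hc => Subgroup.mem_centralizer_iff.2 fun y hy => ?_)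
    (Subgroup.centralizer_le (Set.singleton_subset_iff.2 hz))
  obtain ⟨i, rfl⟩ : y ∈ Subgroup.zpowers z := (zpowers_eq h hz hz1).symm ▸ hy
  exact ((show Commute z c from (Subgroup.mem_centralizer_singleton_iff.1 hc).symm).zpow_left i).eq

theorem exists_ne_one (h : Setup G p S) : ∃ z ∈ P, z ≠ 1 := by
  haveI : Nontrivial P := Finite.one_lt_card_iff_nontrivial.1 (by
    rw [show Nat.card (P) = p from h.cardP]; exact (Fact.out : p.Prime).one_lt)
  obtain ⟨⟨z, hz⟩, hz1⟩ := exists_ne (1 : P)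
  exact ⟨z, hz, fun e => hz1 (Subtype.ext e)⟩

/-- A perfect group is not `p`-nilpotent. -/
theorem not_normalizer_le (h : Setup G p S) : ¬ NP ≤ CP := by
  intro hle
  have hker : (MonoidHom.transferSylow S hle).ker = ⊤ := by
    haveI : IsCyclic P := isCyclic_of_prime_card h.cardP
    rw [eq_top_iff, ← h.perfect, commutator_def, Subgroup.commutator_le]
    intro a _ b _
    rw [MonoidHom.mem_ker, map_commutatorElement, commutatorElement_eq_one_iff_mul_comm]
    exact mul_comm' _ _
  have hcomp := (MonoidHom.ker_transferSylow_isComplement' S hle).disjoint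
  rw [hker] at hcomp
  have hP := h.cardP
  rw [show Nat.card S = Nat.card (P) from rfl, top_disjoint.1 hcomp, Subgroup.card_bot] at hP
  exact (Fact.out : p.Prime).one_lt.ne hP

theorem not_normal (h : Setup G p S) : ¬ (P).Normal := fun hn => by
  haveI := hn
  haveI : (CP).Normal := Subgroup.normal_centralizer ..
  haveI : IsCyclic P := isCyclic_of_prime_card h.cardP
  haveI := IsCyclic.commGroup (α := P)
  have hker : (MulAut.conjNormal : G →* MulAut P).ker = ⊤ := by
    rw [eq_top_iff, ← h.perfect, commutator_def, Subgroup.commutator_le]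
    intro a _ b _
    rw [MonoidHom.mem_ker, map_commutatorElement, commutatorElement_eq_one_iff_mul_comm]
    exact (IsCyclic.mulAutMulEquiv P).injective (by rw [map_mul, map_mul, mul_comm])
  refine not_normalizer_le h fun g _ => Subgroup.mem_centralizer_iff.2 fun y hy => ?_
  have hg : g ∈ (MulAut.conjNormal : G →* MulAut P).ker := hker ▸ Subgroup.mem_top g
  have h1 := congrArg (fun σ : MulAut P => ((σ ⟨y, hy⟩ : P) : G)) (MonoidHom.mem_ker.1 hg)
  simp only [MulAut.conjNormal_apply, MulAut.one_apply] at h1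
  exact (mul_inv_eq_iff_eq_mul.1 h1).symm

/-- The numerical invariants. -/
structure Num (S : Sylow p G) (c e n : ℕ) : Prop where
  cardC : Nat.card (Subgroup.centralizer ((S : Subgroup G) : Set G)) = p * c
  he : (Subgroup.centralizer ((S : Subgroup G) : Set G)).relIndex
    (Subgroup.normalizer ((S : Subgroup G) : Set G)) = e
  cardN : Nat.card (Subgroup.normalizer ((S : Subgroup G) : Set G)) = p * c * e
  sylow : Nat.card (Sylow p G) = 1 + n * p
  cardG : Nat.card G = p * c * e * (1 + n * p)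
  index : ∀ z : G, z ∈ (S : Subgroup G) → z ≠ 1 →
    (Subgroup.centralizer ({z} : Set G)).index = e * (1 + n * p)
  cpos : 1 ≤ c
  epos : 2 ≤ e
  npos : 1 ≤ n

theorem exists_num (h : Setup G p S) {n : ℕ} (hn : Nat.card (Sylow p G) = 1 + n * p) :
    ∃ c e, Num S c e n := by
  have hp : p.Prime := Fact.out
  have hCN : CP ≤ NP := Subgroup.centralizer_le_normalizer _
  obtain ⟨c, hc⟩ := Subgroup.card_dvd_of_le (le_centralizer h)
  rw [show Nat.card (P) = p from h.cardP] at hc
  set e := (CP).relIndex NP with he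
  have hN : Nat.card (NP : Subgroup G) = p * c * e := by
    rw [← hc, he, Subgroup.relIndex,
      ← Nat.card_congr (Subgroup.subgroupOfEquivOfLe hCN).toEquiv, Subgroup.card_mul_index]
  have hG : Nat.card G = p * c * e * (1 + n * p) := by
    rw [← hN, ← hn, Sylow.card_eq_index_normalizer S]
    exact (Subgroup.card_mul_index _).symm
  have hc0 : 1 ≤ c := Nat.pos_of_ne_zero fun h0 => by
    rw [h0, mul_zero] at hc; exact Nat.card_pos.ne' hc
  have he2 : 2 ≤ e := by
    have he0 : e ≠ 0 := Subgroup.index_ne_zero_of_finite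
    by_contra hlt
    exact not_normalizer_le h (Subgroup.relIndex_eq_one.1 (show (CP).relIndex NP = 1 by omega))
  have hn1 : 1 ≤ n := Nat.pos_of_ne_zero fun h0 => not_normal h (by
    rw [h0, zero_mul, add_zero] at hn
    haveI : Subsingleton (Sylow p G) := (Nat.card_eq_one_iff_unique.1 hn).1
    exact Sylow.normal_of_subsingleton S)
  refine ⟨c, e, hc, rfl, hN, hn, hG, fun z hz hz1 => ?_, hc0, he2, hn1⟩
  refine Nat.eq_of_mul_eq_mul_left (show 0 < p * c by have := hp.pos; positivity) ?_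
  rw [centralizer_singleton h hz hz1, ← mul_assoc, ← hG, ← hc, Subgroup.card_mul_index]

/-- The characters of the principal block. -/
structure Blk (M : Ideal AlgInt) (S : Sylow p G) (e s : ℕ) (X Y : Finset (IrrCharacter G))
    (sg : IrrCharacter G → ℤ) (ε : ℤ) : Prop where
  cardX : X.card = e
  cardY : Y.card = s
  hes : e * s + 1 = p
  disj : ∀ χ ∈ X, χ ∉ Y
  mem : ∀ χ, χ ∈ principalBlock M G ↔ χ ∈ X ∨ χ ∈ Y
  triv : trivIrr G ∈ X
  sgTriv : sg (trivIrr G) = 1
  sign : ∀ χ ∈ X, sg χ = 1 ∨ sg χ = -1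
  congX : ∀ χ ∈ X, deg χ ≡ sg χ [ZMOD p]
  valX : ∀ χ ∈ X, ∀ x : G, x ∈ (S : Subgroup G) → x ≠ 1 →
    ∀ y : G, y ∈ Subgroup.centralizer ((S : Subgroup G) : Set G) → ¬ p ∣ orderOf y →
      (χ : G → ℂ) (x * y) = (sg χ : ℂ)
  signY : ε = 1 ∨ ε = -1
  congY : ∀ θ ∈ Y, deg θ ≡ ε * (e : ℤ) [ZMOD p]
  agree : ∀ θ ∈ Y, ∀ θ' ∈ Y, ∀ g : G, ¬ p ∣ orderOf g → (θ : G → ℂ) g = (θ' : G → ℂ) g
  rel : ∀ θ ∈ Y, ∀ g : G, ¬ p ∣ orderOf g →
    (ε : ℂ) * (θ : G → ℂ) g = ∑ χ ∈ X, (sg χ : ℂ) * (χ : G → ℂ) g

theorem trivIrr_apply (g : G) : ((trivIrr G : IrrCharacter G) : G → ℂ) g = 1 := rfl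

theorem deg_trivIrr : deg (trivIrr G : IrrCharacter G) = 1 := by
  have h := (irr_one (trivIrr G : IrrCharacter G)).1
  rw [trivIrr_apply] at h
  show (charDegree ((trivIrr G : IrrCharacter G) : G → ℂ) : ℤ) = 1
  exact_mod_cast h.symm

theorem eq_trivIrr (h : Setup G p S) {θ : IrrCharacter G} (hθ : deg θ = 1) : θ = trivIrr G := by
  refine Subtype.ext (CfsgLib.PClosedBound.eq_one_of_apply_one h.perfect θ.2 ?_)
  rw [(irr_one θ).1]
  have : charDegree (θ : G → ℂ) = 1 := by exact_mod_cast hθ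
  rw [this, Nat.cast_one]

/-- **The principal block**, the trivial character being non-exceptional. -/
theorem exists_blk {M : Ideal AlgInt} [M.IsPrime] (hM : IsPModular p M) (h : Setup G p S)
    {c e n : ℕ} (num : Num S c e n) :
    ∃ s X Y sg ε, Blk M S e s X Y sg ε := by
  classical
  have hp : p.Prime := Fact.out
  haveI := CfsgLib.Block.charP_residue hM
  letI := irrFintype (G := G)
  haveI : Fintype (principalBlock M G) := Fintype.ofFinite _
  obtain ⟨X, εX, ε, hX, hY, hXv, hε, hYc, hYeq, hYrel⟩ :=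
    CfsgLib.Cyclic.principal_prime_order hM S h.cardP num.he
  set one : principalBlock M G := ⟨trivIrr G, trivIrr_mem_principal⟩ with hone
  let emb : principalBlock M G ↪ IrrCharacter G := Function.Embedding.subtype _
  set sg : IrrCharacter G → ℤ := fun χ => if hχ : χ ∈ principalBlock M G then εX ⟨χ, hχ⟩ else 1
  have hsg : ∀ χ : principalBlock M G, sg χ.1 = εX χ := fun χ => dif_pos χ.2
  set X' := X.map emb
  set Y' := Xᶜ.map emb
  have hmem : ∀ χ : IrrCharacter G, χ ∈ principalBlock M G ↔ χ ∈ X' ∨ χ ∈ Y' := by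
    intro χ
    simp only [X', Y', Finset.mem_map, Finset.mem_compl]
    constructor
    · intro hχ
      by_cases hx : (⟨χ, hχ⟩ : principalBlock M G) ∈ X
      · exact Or.inl ⟨_, hx, rfl⟩
      · exact Or.inr ⟨_, hx, rfl⟩
    · rintro (⟨a, -, rfl⟩ | ⟨a, -, rfl⟩) <;> exact a.2
  have hdisj : ∀ χ ∈ X', χ ∉ Y' := by
    simp only [X', Y', Finset.mem_map, Finset.mem_compl]
    rintro _ ⟨a, ha, rfl⟩ ⟨b, hb, hab⟩
    exact hb (emb.injective hab ▸ ha)
  have hp1 : ¬ p ∣ orderOf (1 : G) := by rw [orderOf_one]; exact hp.not_dvd_one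
  obtain ⟨z, hz, hz1⟩ := exists_ne_one h
  by_cases honeX : one ∈ X
  · have hεone : εX one = 1 := by
      have h1 := (hXv one honeX).2.2 z hz hz1 1 (one_mem _) hp1
      rw [show ((one : IrrCharacter G) : G → ℂ) (z * 1) = 1 from rfl] at h1
      exact_mod_cast h1.symm
    refine ⟨(Xᶜ).card, X', Y', sg, ε, ?_⟩
    refine ⟨by simp [X', hX], by simp [Y'], hY, hdisj, hmem, Finset.mem_map.2 ⟨one, honeX, rfl⟩,
      (hsg one).trans hεone, ?_, ?_, ?_, hε, ?_, ?_, ?_⟩
    · simp only [X', Finset.mem_map]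
      rintro _ ⟨a, ha, rfl⟩; exact hsg a ▸ (hXv a ha).1
    · simp only [X', Finset.mem_map]
      rintro _ ⟨a, ha, rfl⟩; exact hsg a ▸ (hXv a ha).2.1
    · simp only [X', Finset.mem_map]
      rintro _ ⟨a, ha, rfl⟩; exact hsg a ▸ (hXv a ha).2.2
    · simp only [Y', Finset.mem_map, Finset.mem_compl]
      rintro _ ⟨a, ha, rfl⟩; exact hYc a ha
    · simp only [Y', Finset.mem_map, Finset.mem_compl]
      rintro _ ⟨a, ha, rfl⟩ _ ⟨b, hb, rfl⟩; exact hYeq a b ha hb
    · simp only [X', Y', Finset.mem_map, Finset.mem_compl, Finset.sum_map]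
      rintro _ ⟨a, ha, rfl⟩ g hg
      refine (hYrel a ha g hg).trans (Finset.sum_congr rfl fun χ _ => ?_)
      rw [← hsg]; rfl
  · -- only possible with a single exceptional character, which may be exchanged
    have hdeg1 : ∀ θ, θ ∉ X → θ = one := fun θ hθ => Subtype.ext (eq_trivIrr h (by
      have h2 := hYeq θ one hθ honeX 1 hp1
      rw [(irr_one θ.1).1, show ((one : IrrCharacter G) : G → ℂ) 1 = 1 from rfl] at h2
      change (charDegree ((θ : IrrCharacter G) : G → ℂ) : ℤ) = 1
      exact_mod_cast h2))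
    have hYone : Xᶜ = {one} := Finset.eq_singleton_iff_unique_mem.2
      ⟨Finset.mem_compl.2 honeX, fun θ hθ => hdeg1 θ (Finset.mem_compl.1 hθ)⟩
    rw [hYone, Finset.card_singleton, mul_one] at hY
    obtain ⟨χ₀, hχ₀⟩ : ∃ χ₀, χ₀ ∈ X := Finset.card_pos.1 (by
      have := num.epos; omega)
    have hε1 : ε = -1 := by
      have h1 := (hYc one honeX)
      rw [show deg (one : IrrCharacter G) = 1 from deg_trivIrr] at h1
      rcases hε with h2 | h2
      · exfalso
        rw [h2, one_mul] at h1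
        have h3 : p ∣ e - 1 := by
          rw [← Int.natCast_dvd_natCast, Nat.cast_sub (show 1 ≤ e by have := num.epos; omega),
            Nat.cast_one]
          exact Int.modEq_iff_dvd.1 h1
        have := Nat.le_of_dvd (by have := num.epos; omega) h3
        omega
      · exact h2
    have hχ0mem : χ₀.1 ∈ X' := Finset.mem_map.2 ⟨χ₀, hχ₀, rfl⟩
    have honeX' : trivIrr G ∉ X' := by
      simp only [X', Finset.mem_map]
      rintro ⟨a, ha, hae⟩
      exact honeX ((Subtype.ext hae : a = one) ▸ ha)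
    have hs0 := (hXv χ₀ hχ₀).1
    rw [← hsg] at hs0
    let sg' : IrrCharacter G → ℤ := fun χ => if χ = trivIrr G then 1 else sg χ
    have hsg' : ∀ χ ∈ X', sg' χ = sg χ := fun χ hχ =>
      if_neg fun e' : χ = trivIrr G => honeX' (e' ▸ hχ)
    have hXv' : ∀ χ ∈ X', (sg χ = 1 ∨ sg χ = -1) ∧ deg χ ≡ sg χ [ZMOD p] ∧
        ∀ x : G, x ∈ P → x ≠ 1 → ∀ y : G, y ∈ CP → ¬ p ∣ orderOf y →
          (χ : G → ℂ) (x * y) = (sg χ : ℂ) := by
      simp only [X', Finset.mem_map]
      rintro _ ⟨a, ha, rfl⟩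
      exact hsg a ▸ hXv a ha
    refine ⟨1, insert (trivIrr G) (X'.erase χ₀.1), {χ₀.1}, sg', -(sg χ₀.1), ?_⟩
    refine ⟨?_, Finset.card_singleton _, by rw [mul_one]; exact hY, ?_, ?_,
      Finset.mem_insert_self _ _, if_pos rfl, ?_, ?_, ?_, ?_, ?_, ?_, ?_⟩
    · rw [Finset.card_insert_of_notMem fun h1 => honeX' (Finset.mem_of_mem_erase h1),
        Finset.card_erase_of_mem hχ0mem, Finset.card_map, hX]
      have := num.epos; omega
    · intro χ hχ h1
      rw [Finset.mem_singleton] at h1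
      subst h1
      rcases Finset.mem_insert.1 hχ with h2 | h2
      · exact honeX' (h2 ▸ hχ0mem)
      · exact Finset.notMem_erase _ _ h2
    · intro χ
      rw [hmem, show Y' = {trivIrr G} by simp [Y', hYone, emb]; rfl]
      simp only [Finset.mem_insert, Finset.mem_erase, Finset.mem_singleton]
      by_cases hc : χ = χ₀.1
      · subst hc; simp [hχ0mem]
      · simp [hc, or_comm]
    · intro χ hχ
      rcases Finset.mem_insert.1 hχ with h2 | h2
      · exact Or.inl (if_pos h2)
      · rw [hsg' χ (Finset.mem_of_mem_erase h2)]; exact (hXv' χ (Finset.mem_of_mem_erase h2)).1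
    · intro χ hχ
      rcases Finset.mem_insert.1 hχ with h2 | h2
      · subst h2
        rw [deg_trivIrr, show sg' (trivIrr G) = 1 from if_pos rfl]
      · rw [hsg' χ (Finset.mem_of_mem_erase h2)]; exact (hXv' χ (Finset.mem_of_mem_erase h2)).2.1
    · intro χ hχ
      rcases Finset.mem_insert.1 hχ with h2 | h2
      · subst h2
        intro x _ _ y _ _
        rw [trivIrr_apply, show sg' (trivIrr G) = 1 from if_pos rfl, Int.cast_one]
      · rw [hsg' χ (Finset.mem_of_mem_erase h2)]; exact (hXv' χ (Finset.mem_of_mem_erase h2)).2.2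
    · rcases hs0 with h2 | h2 <;> simp [h2]
    · intro θ hθ
      rw [Finset.mem_singleton] at hθ
      subst hθ
      refine (hXv' _ hχ0mem).2.1.trans ?_
      refine Int.modEq_iff_dvd.2 ?_
      rw [show -sg χ₀.1 * (e : ℤ) - sg χ₀.1 = -(sg χ₀.1) * (p : ℤ) by
        rw [← hY]; push_cast; ring]
      exact dvd_mul_left _ _
    · intro θ hθ θ' hθ' g _
      rw [Finset.mem_singleton] at hθ hθ'
      rw [hθ, hθ']
    · intro θ hθ g hg
      rw [Finset.mem_singleton] at hθ
      subst hθ
      have h1 := hYrel one honeX g hg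
      rw [show ((one : IrrCharacter G) : G → ℂ) g = 1 from rfl, hε1] at h1
      rw [Finset.sum_insert fun h2 => honeX' (Finset.mem_of_mem_erase h2),
        show sg' (trivIrr G) = 1 from if_pos rfl, trivIrr_apply,
        Finset.sum_congr rfl fun χ hχ => by rw [hsg' χ (Finset.mem_of_mem_erase hχ)]]
      have h2 : ∑ χ ∈ X', (sg χ : ℂ) * (χ : G → ℂ) g = -1 := by
        simp only [X', Finset.sum_map]
        push_cast at h1
        rw [Finset.sum_congr rfl fun χ (_ : χ ∈ X) => show (sg (emb χ) : ℂ) * ((emb χ : IrrCharacter G) : G → ℂ) g =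
          (εX χ : ℂ) * ((χ : IrrCharacter G) : G → ℂ) g by rw [← hsg]; rfl]
        linear_combination -h1
      rw [← Finset.add_sum_erase X' _ hχ0mem] at h2
      push_cast
      linear_combination -h2

end CfsgLib.BrauerPrime
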