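import Cfsg.Agent.BrauerPrime.Main
import Cfsg.Agent.GreenThree.End
import Cfsg.Agent.BlocksB.ClassSum
import Cfsg.Agent.SmallDegree.ModReduction
import Mathlib.LinearAlgebra.Trace

/-!
# Simple groups with a small character in the principal block
-/

set_option autoImplicit false
set_option linter.style.haveILetI false
set_option linter.unusedSectionVars false

namespace CfsgLib.BrauerPrime

open Cfsg Finset CfsgLib.Block CfsgLib.Block.Chr CfsgLib.BrauerPairs
open CfsgLib.Cyclic (deg)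
open scoped ComplexConjugate

universe u

variable {G : Type u} [Group G] [Fintype G] {p : ℕ} [Fact p.Prime] {S : Sylow p G}

/-- The value at an involution is an integer of absolute value at most the degree. -/
theorem exists_int_value (χ : IrrCharacter G) {t : G} (ht : t ^ 2 = 1) :
    ∃ j : ℤ, (χ : G → ℂ) t = (j : ℂ) ∧ |j| ≤ deg χ := by
  obtain ⟨m, ρ, hρ, hρχ⟩ := χ.2
  obtain ⟨P, hP⟩ : ∃ P, P = (2 : ℂ)⁻¹ • (1 + ρ t) := ⟨_, rfl⟩
  have hPP : P * P = P := by
    have h2 : ρ t * ρ t = 1 := by rw [← map_mul, ← sq, ht, map_one]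
    rw [hP, smul_mul_smul_comm, add_mul, mul_add, mul_add, one_mul, one_mul, mul_one, h2,
      show (1 + ρ t + (ρ t + 1)) = (2 : ℂ) • (1 + ρ t) by rw [two_smul]; abel, smul_smul]
    norm_num
  have hproj : LinearMap.IsProj (LinearMap.range P) P :=
    ⟨fun v => LinearMap.mem_range_self P v, fun v hv => by
      obtain ⟨w, rfl⟩ := hv
      rw [← Module.End.mul_apply, hPP]⟩
  have htr := hproj.trace
  have hk : Module.finrank ℂ (LinearMap.range P) ≤ m := by
    simpa using Submodule.finrank_le (LinearMap.range P)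
  have hm : deg χ = (m : ℤ) := by
    have h1 := (irr_one χ).1
    rw [← congrFun hρχ 1, Representation.char_one, Module.finrank_fin_fun] at h1
    show (charDegree (χ : G → ℂ) : ℤ) = m
    exact_mod_cast h1.symm
  refine ⟨2 * (Module.finrank ℂ (LinearMap.range P) : ℤ) - m, ?_, ?_⟩
  · rw [← hρχ, Representation.character]
    push_cast
    rw [← htr, hP, map_smul, map_add, LinearMap.trace_one, Module.finrank_fin_fun, smul_eq_mul]
    ring
  · rw [hm, abs_le]
    omega

/-- A simple group with a Sylow subgroup of prime order. -/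
theorem setup_of_simple [IsSimpleGroup G] (hG : ¬ IsCyclic G) (hS : Nat.card S = p) :
    Setup G p S := by
  refine ⟨hS, ?_, fun K hK hd => ?_⟩
  · refine (Subgroup.Normal.eq_bot_or_eq_top (inferInstance : (commutator G).Normal)).resolve_left
      fun h => hG ?_
    rw [commutator_def, Subgroup.commutator_eq_bot_iff_le_centralizer] at h
    letI : CommGroup G := { (inferInstance : Group G) with
      mul_comm := fun a b => Subgroup.mem_centralizer_iff.1 (h (Subgroup.mem_top b)) a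
        (Subgroup.mem_top a) }
    infer_instance
  · refine hK.eq_bot_or_eq_top.resolve_right fun h => hd ?_
    rw [h, Subgroup.card_top]
    exact hS ▸ Subgroup.card_subgroup_dvd_card (S : Subgroup G)

/-- A nontrivial irreducible character of a simple group is faithful. -/
theorem faithful_of_simple [IsSimpleGroup G] (h : Setup G p S) {χ : IrrCharacter G}
    (hχ : χ ≠ trivIrr G) (g : G) (hg : (χ : G → ℂ) g = (χ : G → ℂ) 1) : g = 1 := by
  haveI := CfsgLib.Char.kerSubgroup_normal (isCharacter_irr χ)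
  rcases Subgroup.Normal.eq_bot_or_eq_top
    (inferInstance : (CfsgLib.Char.kerSubgroup (isCharacter_irr χ)).Normal) with h1 | h1
  · exact (Subgroup.eq_bot_iff_forall _).1 h1 g
      ((CfsgLib.Char.mem_kerSubgroup (isCharacter_irr χ) g).2 hg)
  · exfalso
    refine hχ (eq_trivIrr h ?_)
    obtain ⟨m, ρ, hρ, hρχ⟩ := χ.2
    have hall : ∀ x : G, (χ : G → ℂ) x = (χ : G → ℂ) 1 := fun x =>
      (CfsgLib.Char.mem_kerSubgroup (isCharacter_irr χ) x).1 (h1 ▸ Subgroup.mem_top x)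
    have h2 := CfsgLib.Char.IsIrrCharacter.classInner_self χ.2
    have hd := (irr_one χ).1
    simp only [Cfsg.classInner, hall, hd, map_natCast, sum_const, card_univ, nsmul_eq_mul] at h2
    rw [← Nat.card_eq_fintype_card, ← mul_assoc, inv_mul_cancel₀ (by
      exact_mod_cast Nat.card_pos.ne'), one_mul] at h2
    have h3 : charDegree (χ : G → ℂ) * charDegree (χ : G → ℂ) = 1 := by exact_mod_cast h2
    show (charDegree (χ : G → ℂ) : ℤ) = 1
    rw [mul_eq_one] at h3
    exact_mod_cast h3.1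

/-- A faithful character of small degree gives at most `p + 1` Sylow subgroups. -/
theorem card_sylow_le_of_character [IsSimpleGroup G] (h : Setup G p S) (hp7 : 7 ≤ p) {χ : G → ℂ}
    (hχ : Cfsg.IsCharacter G χ) (hfaith : ∀ g : G, χ g = χ 1 → g = 1) {d : ℕ} (hd : χ 1 = d)
    (hdp : 2 * d ≤ p) : Nat.card (Sylow p G) ≤ p + 1 := by
  obtain ⟨z, hz, hz1⟩ := exists_ne_one h
  have hzo := orderOf_eq h hz hz1
  obtain ⟨m, σ, hσ⟩ := hχ
  have hm : m = d := by
    rw [← hσ, σ.char_one, Module.finrank_fin_fun, Nat.cast_inj] at hd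
    exact hd
  subst hm
  have hinj : Function.Injective σ := by
    refine (injective_iff_map_eq_one _).2 fun g hg => hfaith g ?_
    rw [← hσ, Representation.character, Representation.character, hg, map_one σ]
  obtain ⟨V, _, _, _, ρ, hr, hker⟩ := CfsgLib.SmallDegree.exists_reduction (by omega) σ hinj hzo
  have hsimple : ∀ K : Subgroup G, K.Normal → z ∉ K → ∀ k ∈ K, Commute z k := fun K hK hzK k hk => by
    rcases hK.eq_bot_or_eq_top with h' | h'
    · rw [h', Subgroup.mem_bot] at hk; rw [hk]; exact Commute.one_right z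
    · exact absurd (h' ▸ Subgroup.mem_top z) hzK
  refine CfsgLib.GreenThree.card_sylow_le_of_nilpotent hp7 hzo S (zpowers_eq h hz hz1).symm hsimple
    ρ hr hdp fun h1 => ?_
  haveI : ρ.ker.Normal := MonoidHom.normal_ker ρ
  rcases Subgroup.Normal.eq_bot_or_eq_top (inferInstance : ρ.ker.Normal) with h2 | h2
  · exact hz1 ((Subgroup.eq_bot_iff_forall _).1 h2 z (MonoidHom.mem_ker.2 h1))
  · refine not_normal h ?_
    have hpG : IsPGroup p G := fun g => by
      obtain ⟨k, hk⟩ := hker ⟨g, h2 ▸ Subgroup.mem_top g⟩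
      exact ⟨k, congrArg Subtype.val hk⟩
    have hStop : (S : Subgroup G) = ⊤ :=
      (S.3 (hpG.to_subgroup ⊤) le_top).symm
    rw [hStop]
    infer_instance

/-- The case of an automizer of order two: the group is small. -/
theorem card_lt_of_two [IsSimpleGroup G] {M : Ideal AlgInt} [M.IsPrime] (hM : IsPModular p M)
    (h : Setup G p S) {n s : ℕ} (num : Num S 1 2 n) {X Y : Finset (IrrCharacter G)}
    {sg : IrrCharacter G → ℤ} (B : Blk M S 2 s X Y sg (-1)) (hp5 : 5 ≤ p)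
    (hdeg : ∀ θ ∈ Y, deg θ = (p : ℤ) - 2) {b : ℕ} (hG : Nat.card G = p * 2 ^ b * (p - 2)) :
    Nat.card G < p ^ 3 := by
  classical
  have hp : p.Prime := Fact.out
  letI := irrFintype (G := G)
  haveI : Fact (Nat.Prime 2) := ⟨Nat.prime_two⟩
  obtain ⟨θ₀, hθ₀⟩ := card_pos.1 (B.cardY ▸ B.spos : 0 < Y.card)
  -- the other member of `X`
  obtain ⟨χ₁, hX⟩ : ∃ χ₁, X.erase (trivIrr G) = {χ₁} := card_eq_one.1 (by
    rw [card_erase_of_mem B.triv, B.cardX])
  have hχ₁X : χ₁ ∈ X := mem_of_mem_erase (hX ▸ mem_singleton_self χ₁)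
  have hχ₁ : (sg χ₁ = -1) ∧ deg χ₁ = (p : ℤ) - 1 := by
    have h1 := B.degY hθ₀
    rw [← add_sum_erase X _ B.triv, hX, sum_singleton, B.sgTriv, deg_trivIrr, hdeg θ₀ hθ₀] at h1
    have h2 := deg_pos χ₁
    rcases B.sign χ₁ hχ₁X with h3 | h3 <;> rw [h3] at h1
    · exfalso; omega
    · exact ⟨h3, by omega⟩
  have hn0 : 2 * (1 + n * p) = 2 ^ b * (p - 2) := by
    refine Nat.eq_of_mul_eq_mul_left hp.pos ?_
    rw [← mul_assoc p (2 ^ b), ← hG, num.cardG]
    ring
  obtain ⟨z, hz, hz1⟩ := exists_ne_one h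
  have hzo := orderOf_eq h hz hz1
  -- a central involution of a Sylow `2`-subgroup
  obtain ⟨T⟩ : Nonempty (Sylow 2 G) := inferInstance
  have hb : 1 ≤ b := Nat.pos_of_ne_zero fun h0 => by
    rw [h0, pow_zero, one_mul] at hn0
    have hodd := hp.odd_of_ne_two (by omega)
    obtain ⟨j, hj⟩ := hodd
    omega
  have hTc : 2 ^ b ∣ Nat.card (T : Subgroup G) := by
    rw [T.card_eq_multiplicity]
    refine pow_dvd_pow 2 ((Nat.prime_two.pow_dvd_iff_le_factorization Nat.card_pos.ne').1 ?_)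
    exact ⟨p * (p - 2), by rw [hG]; ring⟩
  haveI : Nontrivial T := Finite.one_lt_card_iff_nontrivial.1
    (lt_of_lt_of_le (Nat.one_lt_two_pow (by omega)) (Nat.le_of_dvd Nat.card_pos hTc))
  haveI := T.isPGroup'.center_nontrivial
  obtain ⟨⟨⟨t, htT⟩, htc⟩, hto⟩ := exists_prime_orderOf_dvd_card' (G := Subgroup.center T) 2 (by
    obtain ⟨k, hk0, hk⟩ := (T.isPGroup'.to_subgroup (Subgroup.center T)).nontrivial_iff_card.1
      inferInstance
    rw [hk]
    exact dvd_pow_self 2 (by omega))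
  have ht2 : orderOf t = 2 := by rw [← hto, ← Subgroup.orderOf_coe, ← Subgroup.orderOf_coe]
  have htsq : t ^ 2 = 1 := ht2 ▸ pow_orderOf_eq_one t
  have ht1 : t ≠ 1 := fun h1 => by rw [h1, orderOf_one] at ht2; omega
  have htinv : t⁻¹ = t := inv_eq_of_mul_eq_one_right (by rw [← sq, htsq])
  set C := Subgroup.centralizer ({t} : Set G) with hC
  have hTC : (T : Subgroup G) ≤ C := fun w hw => Subgroup.mem_centralizer_singleton_iff.2
    (congrArg Subtype.val (Subgroup.mem_center_iff.1 htc ⟨w, hw⟩))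
  have hCb : 2 ^ b ≤ Nat.card C :=
    (Nat.le_of_dvd Nat.card_pos hTc).trans (Subgroup.card_le_of_le hTC)
  have hnp : ¬ p ∣ orderOf t := by
    rw [ht2]
    exact fun hd => by have := Nat.le_of_dvd two_pos hd; omega
  obtain ⟨j, hj, hjd⟩ := exists_int_value θ₀ htsq
  have hjne : j ≠ (p : ℤ) - 2 := fun hje => ht1 (faithful_of_simple h
    (fun e => B.disj _ B.triv (e ▸ hθ₀)) t (by
      rw [hj, hje, apply_one_eq, hdeg θ₀ hθ₀]))
  have hχt : (χ₁ : G → ℂ) t = (j : ℂ) + 1 := by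
    have h1 := B.rel θ₀ hθ₀ t hnp
    rw [← add_sum_erase X _ B.triv, hX, sum_singleton, B.sgTriv, trivIrr_apply, hχ₁.1, hj] at h1
    push_cast at h1
    linear_combination h1
  have hzinv : z⁻¹ ∈ (S : Subgroup G) := inv_mem hz
  have hzinv1 : z⁻¹ ≠ 1 := inv_ne_one.2 hz1
  have hp1c : ((p : ℂ) - 1) ≠ 0 := by
    rw [← Nat.cast_one, ← Nat.cast_sub hp.one_lt.le]; exact Nat.cast_ne_zero.2 (by omega)
  have hp2c : ((p : ℂ) - 2) ≠ 0 := by
    rw [show (2 : ℂ) = ((2 : ℕ) : ℂ) by norm_num, ← Nat.cast_sub (by omega : 2 ≤ p)]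
    exact Nat.cast_ne_zero.2 (by omega)
  have hsum : ∑ χ : IrrCharacter G, (χ : G → ℂ) t * (χ : G → ℂ) t * (χ : G → ℂ) z⁻¹ / (χ : G → ℂ) 1 =
      ((j : ℂ) - ((p : ℂ) - 2)) ^ 2 / (((p : ℂ) - 1) * ((p : ℂ) - 2)) := by
    rw [← sum_add_sum_compl (X ∪ Y), sum_union (disjoint_left.2 B.disj),
      ← add_sum_erase X _ B.triv, hX, sum_singleton, trivIrr_apply, trivIrr_apply, trivIrr_apply,
      sum_eq_zero (s := (X ∪ Y)ᶜ) fun φ hφ => by
        rw [mem_compl, mem_union] at hφ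
        rw [(outside hM h num fun h' => hφ ((B.mem φ).1 h')).2 z⁻¹
          (by rw [orderOf_inv, hzo]), mul_zero, zero_div],
      sum_congr rfl fun θ (hθ : θ ∈ Y) => show
          (θ : G → ℂ) t * (θ : G → ℂ) t * (θ : G → ℂ) z⁻¹ / (θ : G → ℂ) 1 =
            (j : ℂ) ^ 2 / ((p : ℂ) - 2) * (θ : G → ℂ) z⁻¹ by
        rw [B.agree θ hθ θ₀ hθ₀ t hnp, hj, apply_one_eq, hdeg θ hθ]
        push_cast
        ring,
      ← mul_sum, B.sumY hM h hzinv hzinv1, hχt, B.valP hχ₁X hzinv hzinv1, hχ₁.1, apply_one_eq,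
      hχ₁.2]
    push_cast
    field_simp
    ring
  -- the pairs
  set U := univ.filter fun u : G => IsConj t u ∧ IsConj t (u⁻¹ * z) with hU
  have hpairs : (univ.filter fun gh : G × G =>
      gh.1 * t * gh.1⁻¹ * (gh.2 * t * gh.2⁻¹) = z).card = U.card * (Nat.card C * Nat.card C) := by
    rw [card_eq_sum_card_fiberwise (f := fun gh : G × G => gh.1 * t * gh.1⁻¹) (t := U)]
    · refine sum_const_nat fun u hu => ?_
      rw [hU, mem_filter] at hu
      rw [show (univ.filter fun gh : G × G => gh.1 * t * gh.1⁻¹ * (gh.2 * t * gh.2⁻¹) = z).filter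
          (fun gh => gh.1 * t * gh.1⁻¹ = u) =
          (univ.filter fun g : G => g * t * g⁻¹ = u) ×ˢ
            (univ.filter fun h : G => h * t * h⁻¹ = u⁻¹ * z)
        from ?_, card_product, card_fib t u hu.2.1, card_fib t _ hu.2.2, ← hC]
      ext ⟨g, h⟩
      simp only [mem_filter, mem_univ, true_and, mem_product]
      constructor
      · rintro ⟨h1, h2⟩
        exact ⟨h2, by rw [eq_inv_mul_iff_mul_eq.2 h1, h2]⟩
      · rintro ⟨h1, h2⟩
        exact ⟨by rw [h1, h2, mul_inv_cancel_left], h1⟩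
    · intro gh hgh
      rw [mem_coe, mem_filter] at hgh
      rw [hU, mem_coe, mem_filter]
      refine ⟨mem_univ _, isConj_iff.2 ⟨gh.1, rfl⟩, isConj_iff.2 ⟨gh.2, ?_⟩⟩
      show gh.2 * t * gh.2⁻¹ = (gh.1 * t * gh.1⁻¹)⁻¹ * z
      rw [eq_inv_mul_iff_mul_eq.2 hgh.2]
  have heqn : (U.card : ℤ) * ((Nat.card C : ℤ) * Nat.card C) * (((p : ℤ) - 1) * ((p : ℤ) - 2)) =
      (Nat.card G : ℤ) * (j - ((p : ℤ) - 2)) ^ 2 := by
    have hcp := CfsgLib.BlocksB.card_pairs t t z
    rw [hpairs, ← sum_irr_eq (fun χ => χ t * χ t * χ z⁻¹ / χ 1), hsum] at hcp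
    push_cast at hcp
    have h2 : ((U.card : ℂ) * ((Nat.card C : ℂ) * Nat.card C)) * (((p : ℂ) - 1) * ((p : ℂ) - 2)) =
        (Nat.card G : ℂ) * ((j : ℂ) - ((p : ℂ) - 2)) ^ 2 := by
      rw [hcp]; field_simp
    exact_mod_cast h2
  have hUp : p ≤ U.card := by
    obtain ⟨u, hu⟩ : U.Nonempty := by
      rw [nonempty_iff_ne_empty]
      intro he
      rw [he, card_empty, Nat.cast_zero, zero_mul, zero_mul, eq_comm, mul_eq_zero] at heqn
      rcases heqn with h1 | h1
      · exact Nat.card_pos.ne' (by exact_mod_cast h1)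
      · exact hjne (sub_eq_zero.1 (pow_eq_zero_iff two_ne_zero |>.1 h1))
    rw [hU, mem_filter] at hu
    have hinvc : ∀ w, IsConj t w → w⁻¹ = w := fun w hw => by
      obtain ⟨g, hg⟩ := isConj_iff.1 hw
      rw [← hg]
      simp [mul_assoc, htinv]
    -- `u` inverts `z`
    have huz : u * z * u⁻¹ = z⁻¹ := by
      have h2 := hinvc _ hu.2.2
      rw [_root_.mul_inv_rev, inv_inv] at h2
      rw [hinvc u hu.2.1] at h2 ⊢
      calc u * z * u = z⁻¹ * u * u := by rw [h2]
        _ = z⁻¹ * (u * u⁻¹) := by rw [mul_assoc, hinvc u hu.2.1]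
        _ = z⁻¹ := by rw [mul_inv_cancel, mul_one]
    have hzsq : z ^ 2 ≠ 1 := fun h2 => by
      have h3 := orderOf_dvd_of_pow_eq_one h2
      rw [hzo] at h3
      have := Nat.le_of_dvd two_pos h3
      omega
    have hsub : (range p).image (fun i => z ^ i * u * (z ^ i)⁻¹) ⊆ U := by
      intro w hw
      obtain ⟨i, -, rfl⟩ := mem_image.1 hw
      rw [hU, mem_filter]
      refine ⟨mem_univ _, hu.2.1.trans (isConj_iff.2 ⟨z ^ i, rfl⟩),
        hu.2.2.trans (isConj_iff.2 ⟨z ^ i, ?_⟩)⟩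
      have hc : (z ^ i)⁻¹ * z = z * (z ^ i)⁻¹ := ((Commute.refl z).pow_left i).inv_left.eq
      rw [_root_.mul_inv_rev, _root_.mul_inv_rev, inv_inv, mul_assoc, mul_assoc, mul_assoc,
        mul_assoc, hc]
    refine le_of_eq_of_le ?_ (card_le_card hsub)
    rw [card_image_of_injOn, card_range]
    intro i hi i' hi' hii
    simp only [coe_range, Set.mem_Iio] at hi hi'
    simp only at hii
    -- `z ^ i u z ^ (-i) = z ^ (2 i) u`
    have hmove : ∀ i : ℕ, z ^ i * u * (z ^ i)⁻¹ = z ^ (2 * i) * u := by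
      intro i
      have h1 : u * (z ^ i)⁻¹ = z ^ i * u := by
        have h2 : u * z ^ i * u⁻¹ = (z ^ i)⁻¹ := by rw [← inv_pow, ← huz, conj_pow]
        have h3 := congrArg (fun w => w⁻¹) h2
        simp only [_root_.mul_inv_rev, inv_inv, ← mul_assoc] at h3
        exact mul_inv_eq_iff_eq_mul.1 h3
      rw [mul_assoc, h1, ← mul_assoc, ← pow_add, ← two_mul]
    rw [hmove, hmove] at hii
    have h3 := (pow_inj_mod.1 (mul_right_cancel hii))
    rw [hzo] at h3
    have h4 : Nat.ModEq p i i' := Nat.ModEq.cancel_left_of_coprime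
      ((Nat.coprime_primes hp Nat.prime_two).2 (by omega)) h3
    exact Nat.ModEq.eq_of_lt_of_lt h4 hi hi'
  -- conclusion
  obtain ⟨k, hk⟩ : ∃ k : ℕ, k + 2 = p := ⟨p - 2, by omega⟩
  have hC2 : 2 ^ b * 2 ^ b ≤ Nat.card C * Nat.card C := Nat.mul_le_mul hCb hCb
  have hineq : 2 ^ b * (k + 1) ≤ 4 * (k * k) := by
    have h1 : ((p * (2 ^ b * 2 ^ b) * ((k + 1) * k) : ℕ) : ℤ) ≤
        ((p * 2 ^ b * k * (4 * (k * k)) : ℕ) : ℤ) := by
      push_cast
      have hjb : (j - ((p : ℤ) - 2)) ^ 2 ≤ 4 * ((k : ℤ) * k) := by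
        rw [hdeg θ₀ hθ₀] at hjd
        obtain ⟨hl, hr⟩ := abs_le.1 hjd
        have hpk : (p : ℤ) - 2 = k := by omega
        rw [hpk] at hl hr ⊢
        nlinarith
      have hpk : ((p : ℤ) - 1) * ((p : ℤ) - 2) = ((k : ℤ) + 1) * k := by
        rw [← hk]; push_cast; ring
      rw [hpk, hG, show p - 2 = k by omega] at heqn
      push_cast at heqn
      have hUC : (p : ℤ) * (2 ^ b * 2 ^ b) ≤ (U.card : ℤ) * ((Nat.card C : ℤ) * Nat.card C) := by
        exact_mod_cast Nat.mul_le_mul hUp hC2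
      calc (p : ℤ) * (2 ^ b * 2 ^ b) * (((k : ℤ) + 1) * k)
          ≤ (U.card : ℤ) * ((Nat.card C : ℤ) * Nat.card C) * (((k : ℤ) + 1) * k) :=
            mul_le_mul_of_nonneg_right hUC (by positivity)
        _ = (p : ℤ) * 2 ^ b * k * (j - ((p : ℤ) - 2)) ^ 2 := heqn
        _ ≤ (p : ℤ) * 2 ^ b * k * (4 * ((k : ℤ) * k)) :=
            mul_le_mul_of_nonneg_left hjb (by positivity)
    have h2 : p * 2 ^ b * k * (2 ^ b * (k + 1)) ≤ p * 2 ^ b * k * (4 * (k * k)) :=
      le_of_eq_of_le (by ring) (Int.ofNat_le.1 h1)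
    exact Nat.le_of_mul_le_mul_left h2 (Nat.mul_pos (Nat.mul_pos hp.pos (Nat.two_pow_pos b)) (by omega))
  -- `2 ^ b ≡ -1`
  have hdvd : p ∣ 2 ^ b + 1 := by
    refine (Nat.Prime.dvd_mul hp).1 (?_ : p ∣ 2 * (2 ^ b + 1)) |>.resolve_left
      fun hd => by have := Nat.le_of_dvd two_pos hd; omega
    rw [show p - 2 = k by omega] at hn0
    refine (Nat.dvd_add_left (dvd_mul_right p (2 * n))).1 ?_
    rw [show 2 * (2 ^ b + 1) + p * (2 * n) = 2 ^ b * p by
      rw [show 2 ^ b * p = 2 ^ b * k + 2 * 2 ^ b by rw [← hk]; ring, ← hn0]; ring]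
    exact dvd_mul_left p _
  -- `p - 1` is the degree of `χ₁`, which divides `2 (1 + n p)`, hence is a power of two
  have hdvd1 : p - 1 ∣ 2 ^ b := by
    have h1 := B.dvdX h num hχ₁X
    rw [hn0] at h1
    have h2 : charDegree (χ₁ : G → ℂ) = p - 1 := by
      have h3 : (charDegree (χ₁ : G → ℂ) : ℤ) = (p : ℤ) - 1 := hχ₁.2
      omega
    rw [h2] at h1
    refine (Nat.Coprime.dvd_of_dvd_mul_right ?_ h1)
    rw [show p - 1 = (p - 2) + 1 by omega]
    exact Nat.coprime_self_add_left.2 (Nat.coprime_one_left _)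
  obtain ⟨a, hab, ha⟩ := (Nat.dvd_prime_pow Nat.prime_two).1 hdvd1
  have hba : b = a := by
    by_contra hne
    have h1 : 2 ^ (a + 1) ∣ 2 ^ b := pow_dvd_pow 2 (by omega)
    have h2 : 2 ^ b < 4 * 2 ^ a := by
      rw [← ha]
      have h2a : 2 ^ b * (k + 1) < 4 * (k + 1) * (k + 1) := by nlinarith
      calc 2 ^ b < 4 * (k + 1) := Nat.lt_of_mul_lt_mul_right h2a
        _ = 4 * (p - 1) := by congr 1; omega
    have h3 : b < a + 2 := (Nat.pow_lt_pow_iff_right one_lt_two).1 (by rw [pow_add]; omega)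
    obtain rfl : b = a + 1 := by omega
    rw [pow_succ, ← ha] at hdvd
    obtain ⟨c, hc⟩ := hdvd
    rcases Nat.lt_or_ge c 2 with hc2 | hc2
    · interval_cases c <;> omega
    · have := Nat.mul_le_mul_left p hc2
      omega
  rw [hG, hba, ← ha]
  rw [show p ^ 3 = p * p * p by ring]
  exact lt_of_le_of_lt (Nat.mul_le_mul_right (p - 2) (Nat.mul_le_mul_left p (Nat.sub_le p 1)))
    (Nat.mul_lt_mul_of_pos_left (by omega) (Nat.mul_pos hp.pos hp.pos))

end CfsgLib.BrauerPrime
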